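import Mathlib
import Cfsg.Agent.EqLemmas

/-!
The odd order statement as a hypothesis, for results that use it.
-/

set_option autoImplicit false

namespace Cfsg.Agent.OddUse

universe u

/-- Finite groups of odd order (in a given universe) are soluble. -/
def OddSolvable : Prop :=
  ∀ (G : Type u) [Group G] [Finite G], Odd (Nat.card G) → Group.IsSolvable G

/-- A group with a soluble normal subgroup and soluble quotient is soluble. -/
theorem isSolvable_of_normal {G : Type*} [Group G] (N : Subgroup G) [N.Normal]
    [Group.IsSolvable N] [Group.IsSolvable (G ⧸ N)] : Group.IsSolvable G :=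
  Group.isSolvable_of_ker_le_range N.subtype (QuotientGroup.mk' N) (by simp [QuotientGroup.ker_mk'])

end Cfsg.Agent.OddUse
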