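/-
Groups all of whose subgroups have pairwise non-coprime non-trivial class sizes are soluble, given
the odd order hypothesis.
-/
import Cfsg.Agent.Lib.OddUse.Hyp
import Cfsg.Prelude.Def_Solvable
import Cfsg.Agent.Lib.Cores.Basic
import Cfsg.Agent.Lib.Involution.BaerSuzuki

set_option autoImplicit false

namespace Cfsg.Agent.OddUse

universe u

/-- The class size hypothesis. -/
def NoCoprimeClasses (G : Type*) [Group G] : Prop :=
  ∀ (H : Subgroup G) (x y : H), 1 < (Subgroup.centralizer ({x} : Set H)).index →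
    1 < (Subgroup.centralizer ({y} : Set H)).index →
    ¬ ((Subgroup.centralizer ({x} : Set H)).index).Coprime (Subgroup.centralizer ({y} : Set H)).index

variable {G : Type u} [Group G] [Finite G]

/-- The hypothesis passes to subgroups. -/
theorem NoCoprimeClasses.subgroup (h : NoCoprimeClasses G) (M : Subgroup G) : NoCoprimeClasses M := by
  intro H x y hx hy
  let e : H ≃* H.map M.subtype := H.equivMapOfInjective M.subtype M.subtype_injective
  have key : ∀ z : H, (Subgroup.centralizer ({z} : Set H)).index =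
      (Subgroup.centralizer ({e z} : Set (H.map M.subtype))).index := by
    intro z
    have hmap : Subgroup.centralizer ({z} : Set H) =
        (Subgroup.centralizer ({e z} : Set (H.map M.subtype))).comap e.toMonoidHom := by
      ext w
      simp only [Subgroup.mem_comap, Subgroup.mem_centralizer_singleton_iff,
        MulEquiv.coe_toMonoidHom, ← map_mul, e.injective.eq_iff]
    rw [hmap, Subgroup.index_comap_of_surjective _ e.surjective]
  rw [key] at hx hy ⊢
  rw [key]
  exact h _ _ _ hx hy

/-- No element of odd order is inverted by a 2-element. -/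
theorem NoCoprimeClasses.not_inverted (h : NoCoprimeClasses G) {y s : G} (hy1 : y ≠ 1)
    (hy : Odd (orderOf y)) (hs : ∃ k : ℕ, orderOf s = 2 ^ k) (hinv : s * y * s⁻¹ = y⁻¹) : False := by
  set H := Subgroup.closure ({y, s} : Set G) with hH
  set yH : H := ⟨y, Subgroup.subset_closure (Or.inl rfl)⟩
  set sH : H := ⟨s, Subgroup.subset_closure (Or.inr rfl)⟩
  set Y := Subgroup.zpowers yH
  have hne : y ≠ y⁻¹ := by
    intro he
    have h2 : y ^ 2 = 1 := by rw [sq]; nth_rewrite 2 [he]; exact mul_inv_cancel y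
    have hd := orderOf_dvd_of_pow_eq_one h2
    rcases (Nat.dvd_prime Nat.prime_two).1 hd with h3 | h3
    · exact hy1 (orderOf_eq_one_iff.1 h3)
    · rw [h3] at hy; exact absurd hy (by decide)
  have hconj : ∀ b ∈ H, b * y * b⁻¹ = y ∨ b * y * b⁻¹ = y⁻¹ := by
    intro b hb
    induction hb using Subgroup.closure_induction with
    | mem b hb =>
      rcases hb with rfl | rfl
      · left; group
      · exact Or.inr hinv
    | one => left; group
    | mul a b _ _ ha hb =>
      have hab : a * b * y * (a * b)⁻¹ = a * (b * y * b⁻¹) * a⁻¹ := by group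
      rw [hab]
      rcases hb with hb | hb <;> rw [hb]
      · exact ha
      · rw [← conj_inv]
        rcases ha with ha | ha <;> rw [ha]
        · exact Or.inr rfl
        · exact Or.inl (inv_inv y)
    | inv a _ ha =>
      rcases ha with ha | ha
      · left
        calc a⁻¹ * y * a⁻¹⁻¹ = a⁻¹ * (a * y * a⁻¹) * a := by rw [ha]; group
          _ = y := by group
      · right
        calc a⁻¹ * y * a⁻¹⁻¹ = (a⁻¹ * y⁻¹ * a)⁻¹ := by group
          _ = (a⁻¹ * (a * y * a⁻¹) * a)⁻¹ := by rw [ha]
          _ = y⁻¹ := by group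
  -- the class of `y` has size two
  set C := Subgroup.centralizer ({yH} : Set H)
  have hsC : sH ∉ C := by
    intro hc
    have h1 : s * y = y * s :=
      congrArg Subtype.val (Subgroup.mem_centralizer_singleton_iff.1 hc)
    rw [h1, mul_inv_cancel_right] at hinv
    exact hne hinv
  have hmemC : ∀ b : H, b ∈ C ↔ (b : G) * y * (b : G)⁻¹ = y := by
    intro b
    rw [Subgroup.mem_centralizer_singleton_iff, mul_inv_eq_iff_eq_mul, Subtype.ext_iff]
    simp [yH]
  have hC2 : C.index = 2 := by
    rw [Subgroup.index_eq_two_iff']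
    refine ⟨sH, fun b => ?_⟩
    rw [hmemC, hmemC]
    have h2 : ((sH * b : H) : G) * y * ((sH * b : H) : G)⁻¹ = s * ((b : G) * y * (b : G)⁻¹) * s⁻¹ := by
      simp [sH, mul_assoc]
    rw [h2]
    rcases hconj b b.2 with hb | hb <;> rw [hb]
    · exact Or.inr ⟨rfl, fun he => hne (by rw [hinv] at he; exact he.symm)⟩
    · refine Or.inl ⟨?_, fun he => hne he.symm⟩
      rw [← conj_inv, hinv, inv_inv]
  -- the class of `s` has odd size
  haveI hYn : Y.Normal := by
    refine ⟨fun z hz b => ?_⟩
    obtain ⟨i, rfl⟩ := Subgroup.mem_zpowers_iff.1 hz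
    rw [← conj_zpow]
    rcases hconj b b.2 with hb | hb
    · rw [show b * yH * b⁻¹ = yH from Subtype.ext (by simpa [yH] using hb)]
      exact Subgroup.zpow_mem _ (Subgroup.mem_zpowers _) i
    · rw [show b * yH * b⁻¹ = yH⁻¹ from Subtype.ext (by simpa [yH] using hb)]
      exact Subgroup.zpow_mem _ (Subgroup.inv_mem _ (Subgroup.mem_zpowers _)) i
  set D := Subgroup.centralizer ({sH} : Set H)
  have htop : Y ⊔ D = ⊤ := by
    have hc : Subgroup.closure ({yH, sH} : Set H) = ⊤ := by
      apply Subgroup.map_injective H.subtype_injective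
      rw [MonoidHom.map_closure, Set.image_pair, ← MonoidHom.range_eq_map, Subgroup.range_subtype]
      rfl
    rw [← top_le_iff, ← hc, Subgroup.closure_le]
    rintro z (rfl | rfl)
    · exact Subgroup.mem_sup_left (Subgroup.mem_zpowers _)
    · exact Subgroup.mem_sup_right (Subgroup.mem_centralizer_singleton_iff.2 rfl)
  have hDY : D.index ∣ orderOf y := by
    have h1 : Y.relIndex D * Nat.card Y = Nat.card H := by
      have : Y.relIndex D = Y.index := by
        rw [← Subgroup.relIndex_top_right Y, ← htop, sup_comm, Subgroup.relIndex_sup_right]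
      rw [this, mul_comm]
      exact Subgroup.card_mul_index Y
    obtain ⟨c, hc⟩ := Subgroup.relIndex_dvd_card Y D
    have h2 : Y.relIndex D * (c * D.index) = Y.relIndex D * Nat.card Y := by
      rw [← mul_assoc, ← hc, Subgroup.card_mul_index, h1]
    have hpos : Y.relIndex D ≠ 0 := by
      intro h0
      rw [h0, zero_mul] at h1
      exact Nat.card_pos.ne' h1.symm
    have h3 := Nat.eq_of_mul_eq_mul_left (Nat.pos_of_ne_zero hpos) h2
    refine ⟨c, ?_⟩
    rw [show orderOf y = Nat.card Y by rw [Nat.card_zpowers, ← Subgroup.orderOf_coe], ← h3, mul_comm]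
  have hD1 : 1 < D.index := by
    refine Subgroup.one_lt_index_of_ne_top fun he => hsC ?_
    have : yH ∈ D := he ▸ Subgroup.mem_top _
    rw [Subgroup.mem_centralizer_singleton_iff] at this ⊢
    exact this.symm
  have hCi : 1 < C.index := by omega
  refine h H yH sH hCi hD1 ?_
  show Nat.Coprime C.index D.index
  rw [hC2, Nat.prime_two.coprime_iff_not_dvd]
  intro h2
  exact hy.not_two_dvd_nat (h2.trans hDY)

/-- Groups satisfying the hypothesis are soluble, given the odd order hypothesis. -/
theorem isSolvable_of_noCoprimeClasses (hFT : OddSolvable.{u}) :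
    ∀ (n : ℕ) (G : Type u) [Group G] [Finite G], Nat.card G ≤ n → NoCoprimeClasses G →
      Group.IsSolvable G := by
  intro n
  induction n with
  | zero => intro G _ _ hn _; exact absurd hn (by have := Nat.card_pos (α := G); omega)
  | succ n ih =>
    intro G _ _ hn hG
    by_contra hns
    have hproper : ∀ M : Subgroup G, M ≠ ⊤ → Group.IsSolvable M := by
      intro M hM
      refine ih M ?_ (hG.subgroup M)
      have h1 := M.one_lt_index_of_ne_top hM
      have h2 := M.card_mul_index
      have h3 : Nat.card M * 2 ≤ Nat.card M * M.index := Nat.mul_le_mul_left _ h1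
      have h4 : 0 < Nat.card M := Nat.card_pos
      omega
    haveI : Nontrivial G := by
      by_contra hnt
      rw [not_nontrivial_iff_subsingleton] at hnt
      exact hns inferInstance
    -- a maximal proper normal subgroup
    obtain ⟨M, ⟨hMn, hMtop⟩, hMmax⟩ :=
      Set.Finite.exists_maximal (Set.toFinite {N : Subgroup G | N.Normal ∧ N ≠ ⊤})
        ⟨⊥, inferInstance, bot_ne_top⟩
    haveI := hMn
    haveI := hproper M hMtop
    set π := QuotientGroup.mk' M
    have hπ : Function.Surjective π := QuotientGroup.mk'_surjective M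
    have hQns : ¬ Group.IsSolvable (G ⧸ M) := fun hq => hns (by
      haveI := hq
      exact isSolvable_of_normal M)
    have hQeven : 2 ∣ Nat.card (G ⧸ M) := by
      by_contra h2
      exact hQns (hFT _ (Nat.odd_iff.2 (by omega)))
    haveI : Fact (Nat.Prime 2) := ⟨Nat.prime_two⟩
    obtain ⟨t, ht⟩ := exists_prime_orderOf_dvd_card' 2 hQeven
    have hO : ∀ N : Subgroup (G ⧸ M), N.Normal → IsPGroup 2 N → t ∉ N := by
      intro N hN hN2 htN
      have hNtop : N = ⊤ := by
        by_contra hne
        have h1 : N.comap π ≠ ⊤ := fun he => hne (by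
          rw [← Subgroup.map_comap_eq_self_of_surjective hπ N, he,
            Subgroup.map_top_of_surjective π hπ])
        have h2 : M ≤ N.comap π := by
          intro m hm
          rw [Subgroup.mem_comap, show π m = 1 from (QuotientGroup.eq_one_iff m).2 hm]
          exact one_mem N
        have h3 : N.comap π ≤ M := hMmax ⟨hN.comap π, h1⟩ h2
        obtain ⟨g, rfl⟩ := hπ t
        have : π g = 1 := (QuotientGroup.eq_one_iff g).2 (h3 htN)
        rw [this, orderOf_one] at ht
        omega
      refine hQns ?_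
      subst hNtop
      haveI := (hN2.of_equiv Subgroup.topEquiv).isNilpotent
      infer_instance
    obtain ⟨y₀, hy₀1, hy₀odd, hy₀⟩ := Involution.exists_inverted_odd ht hO
    obtain ⟨p, hp, hpy⟩ := Nat.exists_prime_and_dvd (n := orderOf y₀)
      (fun hc => hy₀1 (orderOf_eq_one_iff.1 hc))
    haveI := Fact.mk hp
    have hp2 : p ≠ 2 := fun he => hy₀odd.not_two_dvd_nat (he ▸ hpy)
    set a := y₀ ^ (orderOf y₀ / p) with hadef
    have ha : orderOf a = p := orderOf_pow_orderOf_div (orderOf_pos y₀).ne' hpy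
    have hta : t * a * t⁻¹ = a⁻¹ := by rw [hadef, ← conj_pow, hy₀, inv_pow]
    set E := (Subgroup.zpowers a).comap π with hE
    have hME : M ≤ E := by
      intro m hm
      rw [hE, Subgroup.mem_comap, show π m = 1 from (QuotientGroup.eq_one_iff m).2 hm]
      exact one_mem _
    obtain ⟨P⟩ : Nonempty (Sylow p E) := inferInstance
    set PG := (P : Subgroup E).map E.subtype with hPG
    obtain ⟨t₀, ht₀⟩ := hπ t
    have ht₀E : t₀ ∈ Subgroup.normalizer (E : Set G) := by
      rw [Subgroup.mem_normalizer_iff]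
      intro g
      simp only [hE, Subgroup.mem_comap, map_mul, map_inv, ht₀]
      have htz : ∀ i : ℤ, t * a ^ i * t⁻¹ = a ^ (-i) := fun i => by
        rw [← conj_zpow, hta, inv_zpow, zpow_neg]
      constructor
      · intro hg
        obtain ⟨i, hi⟩ := Subgroup.mem_zpowers_iff.1 hg
        exact ⟨-i, by rw [← hi, htz]⟩
      · intro hg
        obtain ⟨i, hi⟩ := Subgroup.mem_zpowers_iff.1 hg
        refine ⟨-i, ?_⟩
        have h2 := htz (-i)
        rw [neg_neg, hi] at h2
        exact mul_left_cancel (mul_right_cancel h2)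
    -- a lift of `t` normalising `PG`
    let c : MulAut E :=
      E.normalizerMonoidHom ⟨t₀, ht₀E⟩
    obtain ⟨e, he⟩ := MulAction.exists_smul_eq E (P.mapSurjective (f := c.toMonoidHom) c.surjective) P
    set n₀ : G := (e : G) * t₀ with hn₀
    have hn₀N : ∀ g ∈ PG, n₀ * g * n₀⁻¹ ∈ PG := by
      rintro _ ⟨g, hg, rfl⟩
      have h1 : e * c g * e⁻¹ ∈ (P : Subgroup E) := by
        rw [← he, Sylow.coe_subgroup_smul]
        exact ⟨c g, ⟨g, hg, rfl⟩, rfl⟩
      refine ⟨_, h1, ?_⟩
      simp [c, hn₀, mul_assoc]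
    obtain ⟨i, hi⟩ := Subgroup.mem_zpowers_iff.1 (show π (e : G) ∈ Subgroup.zpowers a from e.2)
    have hn₀2 : π n₀ ^ 2 = 1 := by
      have h2 : t ^ 2 = 1 := by rw [← ht]; exact pow_orderOf_eq_one t
      rw [sq] at h2
      rw [hn₀, map_mul, ← hi, ht₀, sq]
      calc a ^ i * t * (a ^ i * t) = a ^ i * (t * a ^ i * t⁻¹) * (t * t) := by group
        _ = 1 := by
          rw [← conj_zpow, hta, h2, mul_one, inv_zpow, mul_inv_cancel]
    obtain ⟨k, m, hm, hkm⟩ := Nat.exists_eq_two_pow_mul_odd (orderOf_pos n₀).ne'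
    set s := n₀ ^ m
    have hs : orderOf s = 2 ^ k := by
      rw [orderOf_pow' n₀ (Nat.pos_iff_ne_zero.1 hm.pos), hkm, Nat.gcd_mul_left_left,
        Nat.mul_div_cancel _ hm.pos]
    have hπs : π s = π n₀ := by
      obtain ⟨j, rfl⟩ := hm
      rw [map_pow, pow_succ, pow_mul, hn₀2, one_pow, one_mul]
    have hsP : ∀ (j : ℕ) g, g ∈ PG → n₀ ^ j * g * (n₀ ^ j)⁻¹ ∈ PG := by
      intro j
      induction j with
      | zero => intro g hg; simpa using hg
      | succ j ihj =>
        intro g hg
        have := hn₀N _ (ihj g hg)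
        rw [pow_succ']
        simpa [mul_assoc] using this
    have hsa : ∀ g ∈ E, π (s * g * s⁻¹) = (π g)⁻¹ := by
      intro g hg
      obtain ⟨j, hj⟩ := Subgroup.mem_zpowers_iff.1 (show π g ∈ Subgroup.zpowers a from hg)
      rw [map_mul, map_mul, map_inv, hπs, hn₀, map_mul, ← hi, ht₀, ← hj]
      calc a ^ i * t * a ^ j * (a ^ i * t)⁻¹ = a ^ i * (t * a ^ j * t⁻¹) * (a ^ i)⁻¹ := by group
        _ = (a ^ j)⁻¹ := by
          rw [← conj_zpow, hta, inv_zpow, ← zpow_neg, ← zpow_add, ← zpow_neg, ← zpow_add]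
          congr 1; ring
    -- an element of `PG` over a nontrivial element, fixed by `s²`
    have hPp : IsPGroup p PG := P.2.map _
    obtain ⟨x₀, hx₀P, hx₀⟩ : ∃ x₀ ∈ PG, π x₀ ≠ 1 := by
      by_contra hcon
      push_neg at hcon
      have hle : (P : Subgroup E) ≤ M.subgroupOf E := fun g hg =>
        (QuotientGroup.eq_one_iff (g : G)).1 (hcon _ ⟨g, hg, rfl⟩)
      apply P.not_dvd_index
      refine dvd_trans ?_ (Subgroup.index_dvd_of_le hle)
      show p ∣ M.relIndex E
      have hker : M = π.ker := (QuotientGroup.ker_mk' M).symm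
      rw [hker, Subgroup.relIndex_ker, hE, Subgroup.map_comap_eq_self_of_surjective hπ,
        Nat.card_zpowers, ha]
    set F := {g : G // g ∈ PG ∧ π g = π x₀}
    have hF : Nat.card F = Nat.card (PG ⊓ M : Subgroup G) := by
      refine Nat.card_congr ⟨fun g => ⟨x₀⁻¹ * g.1, Subgroup.mul_mem _ (Subgroup.inv_mem _ hx₀P) g.2.1,
        (QuotientGroup.eq_one_iff _).1 (by
          show π (x₀⁻¹ * g.1) = 1
          rw [map_mul, map_inv, g.2.2, inv_mul_cancel])⟩,
        fun u => ⟨x₀ * u.1, mul_mem hx₀P u.2.1, by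
          rw [map_mul, show π u.1 = 1 from (QuotientGroup.eq_one_iff u.1).2 u.2.2, mul_one]⟩,
        fun g => Subtype.ext (by simp), fun u => Subtype.ext (by simp)⟩
    have hact : ∀ u : Subgroup.zpowers (s ^ 2), ∀ g : F,
        (u : G) * g.1 * (u : G)⁻¹ ∈ PG ∧ π ((u : G) * g.1 * (u : G)⁻¹) = π x₀ := by
      intro u g
      obtain ⟨j, hj⟩ := mem_powers_iff_mem_zpowers.2 u.2
      simp only at hj
      constructor
      · rw [← hj, ← pow_mul, ← pow_mul]
        exact hsP _ _ g.2.1
      · have hone : π (u : G) = 1 := by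
          rw [← hj, map_pow, map_pow, hπs, hn₀2, one_pow]
        rw [map_mul, map_mul, map_inv, hone, g.2.2, inv_one, mul_one, one_mul]
    letI : MulAction (Subgroup.zpowers (s ^ 2)) F :=
      { smul := fun u g => ⟨(u : G) * g.1 * (u : G)⁻¹, hact u g⟩
        one_smul := fun g => Subtype.ext (by show ((1 : G)) * g.1 * (1 : G)⁻¹ = g.1; group)
        mul_smul := fun u v g => Subtype.ext (by
          show ((u : G) * v) * g.1 * ((u : G) * v)⁻¹ = u * (v * g.1 * (v : G)⁻¹) * (u : G)⁻¹
          group) }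
    have h2s : IsPGroup 2 (Subgroup.zpowers (s ^ 2)) := by
      have h2 : orderOf (s ^ 2) ∣ 2 ^ k := hs ▸ orderOf_pow_dvd 2
      obtain ⟨j, -, hj⟩ := (Nat.dvd_prime_pow Nat.prime_two).1 h2
      exact IsPGroup.of_card (n := j) (by rw [Nat.card_zpowers, hj])
    have h2F : ¬ 2 ∣ Nat.card F := by
      obtain ⟨j, hj⟩ := IsPGroup.iff_card.1 (hPp.to_le (inf_le_left : PG ⊓ M ≤ PG))
      rw [hF, hj]
      intro h2
      exact hp2 ((Nat.prime_dvd_prime_iff_eq Nat.prime_two hp).1 (Nat.prime_two.dvd_of_dvd_pow h2)).symm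
    obtain ⟨x, hx⟩ := h2s.nonempty_fixed_point_of_prime_not_dvd_card F h2F
    have hfix : s ^ 2 * x.1 * (s ^ 2)⁻¹ = x.1 :=
      congrArg Subtype.val (hx ⟨s ^ 2, Subgroup.mem_zpowers _⟩)
    set z := x.1⁻¹ * (s * x.1 * s⁻¹)
    have hzinv : s * z * s⁻¹ = z⁻¹ := by
      have h1 : s * (s * x.1 * s⁻¹) * s⁻¹ = x.1 := by
        rw [sq] at hfix
        calc s * (s * x.1 * s⁻¹) * s⁻¹ = s * s * x.1 * (s * s)⁻¹ := by group
          _ = x.1 := hfix
      calc s * z * s⁻¹ = (s * x.1 * s⁻¹)⁻¹ * (s * (s * x.1 * s⁻¹) * s⁻¹) := by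
            simp only [z]; group
        _ = z⁻¹ := by rw [h1]; simp only [z]; group
    have hzP : z ∈ PG := mul_mem (inv_mem x.2.1) (hsP m _ x.2.1)
    have hodd : ∀ g ∈ PG, Odd (orderOf g) := by
      intro g hg
      obtain ⟨j, hj⟩ := hPp.exists_orderOf_eq_pow (⟨g, hg⟩ : PG)
      rw [← Subgroup.orderOf_mk g hg, hj]
      exact (hp.odd_of_ne_two hp2).pow
    have hz1 : z ≠ 1 := by
      intro hz
      have h1 : π z = 1 := by rw [hz, map_one]
      have hxE : x.1 ∈ E := Subgroup.map_subtype_le _ x.2.1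
      rw [map_mul, map_inv, hsa _ hxE, ← mul_inv_rev, inv_eq_one, x.2.2] at h1
      have h2 : orderOf (π x₀) ∣ 2 := orderOf_dvd_of_pow_eq_one (by rw [sq]; exact h1)
      have h3 : Odd (orderOf (π x₀)) :=
        (hodd x₀ hx₀P).of_dvd_nat (orderOf_map_dvd π x₀)
      rcases (Nat.dvd_prime Nat.prime_two).1 h2 with h4 | h4
      · exact hx₀ (orderOf_eq_one_iff.1 h4)
      · rw [h4] at h3; exact absurd h3 (by decide)
    exact hG.not_inverted hz1 (hodd z hzP) ⟨k, hs⟩ hzinv

end Cfsg.Agent.OddUse
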