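/-
If `4` divides no conjugacy class size, the group is soluble, given the odd order hypothesis.
In a nonabelian simple group every element then centralises a subgroup of index at most two of some
Sylow 2-subgroup `S`; since the conjugates of a centraliser do not cover the group, for every
`z ≠ 1` in `S` some subgroup of index two of `S` avoids the class of `z`.  So `S` is elementary
abelian, and the product of a normaliser orbit (of odd length) in `S` is then nontrivial and fixed
by the normaliser, against transfer.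
-/
import Mathlib
import Cfsg.Agent.Lib.OddUse.Hyp
import Cfsg.Agent.Lib.ClassIndex.Basic
import Cfsg.Agent.Lib.ClassIndex.PxQ

set_option autoImplicit false

namespace Cfsg.Agent.OddUse

universe u

/-- No class size is divisible by four. -/
def NoFourClass (G : Type*) [Group G] : Prop :=
  ∀ x : G, ¬ 4 ∣ (Subgroup.centralizer ({x} : Set G)).index

section

variable {G : Type*} [Group G] [Finite G]

theorem NoFourClass.normal (h : NoFourClass G) (N : Subgroup G) [N.Normal] : NoFourClass N :=
  fun x hx => h x (hx.trans (ClassIndex.index_centralizer_subgroup_dvd N x))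

theorem NoFourClass.quotient (h : NoFourClass G) (N : Subgroup G) [N.Normal] :
    NoFourClass (G ⧸ N) := by
  intro x hx
  obtain ⟨x, rfl⟩ := QuotientGroup.mk'_surjective N x
  exact h x (hx.trans (ClassIndex.index_centralizer_map_dvd (QuotientGroup.mk'_surjective N) x))

/-- In a group with trivial centre every `z ≠ 1` in a Sylow 2-subgroup has an index two subgroup
of that Sylow subgroup avoiding its class. -/
theorem NoFourClass.exists_index_two (h : NoFourClass G) (hZ : Subgroup.center G = ⊥)
    [Fact (Nat.Prime 2)] (S : Sylow 2 G) (z : S) (hz : z ≠ 1) :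
    ∃ R : Subgroup S, R.index = 2 ∧ ∀ s ∈ R, ¬ IsConj (z : G) (s : G) := by
  classical
  by_contra hno
  have hcov : ∀ x : G, ∃ g : G, g⁻¹ * x * g ∈ Subgroup.centralizer ({(z : G)} : Set G) := by
    intro x
    set C := Subgroup.centralizer ({x} : Set G) with hC
    obtain ⟨R₀⟩ : Nonempty (Sylow 2 C) := inferInstance
    set R₁ : Subgroup G := (R₀ : Subgroup C).map C.subtype with hR₁
    obtain ⟨T, hT⟩ := IsPGroup.exists_le_sylow (R₀.2.map C.subtype)
    obtain ⟨g, rfl⟩ := MulAction.exists_smul_eq G S T
    set R : Subgroup S := R₁.comap ((MulAut.conj g).toMonoidHom.comp (S : Subgroup G).subtype)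
      with hR
    set f := (MulAut.conj g).toMonoidHom.comp (S : Subgroup G).subtype with hf
    have hfinj : Function.Injective f := (MulAut.conj g).injective.comp Subtype.val_injective
    have hRmap : R.map f = R₁ := by
      refine Subgroup.map_comap_eq_self (hT.trans ?_)
      intro t ht
      rw [Sylow.coe_subgroup_smul, Subgroup.mem_pointwise_smul_iff_inv_smul_mem] at ht
      refine ⟨⟨_, ht⟩, ?_⟩
      simp [f, MulAut.smul_def]
      group
    have hcardR : Nat.card R = 2 ^ (Nat.card C).factorization 2 := by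
      rw [← R₀.card_eq_multiplicity, Nat.card_congr (R.equivMapOfInjective f hfinj).toEquiv,
        hRmap, hR₁, Subgroup.card_subtype]
    have hprod : 2 ^ (Nat.card C).factorization 2 * R.index =
        2 ^ (Nat.card G).factorization 2 := by
      rw [← hcardR, Subgroup.card_mul_index, S.card_eq_multiplicity]
    have hle : (Nat.card G).factorization 2 ≤ (Nat.card C).factorization 2 + 1 := by
      have h1 : (Nat.card G).factorization 2 =
          (Nat.card C).factorization 2 + C.index.factorization 2 := by
        rw [← C.card_mul_index, Nat.factorization_mul Nat.card_pos.ne' Subgroup.index_ne_zero_of_finite]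
        rfl
      have h2 : C.index.factorization 2 ≤ 1 := by
        by_contra h3
        refine h x (dvd_trans ?_ (Nat.ordProj_dvd C.index 2))
        exact ⟨2 ^ (C.index.factorization 2 - 2), by
          rw [show (4 : ℕ) = 2 ^ 2 by norm_num, ← pow_add]; congr 1; omega⟩
      omega
    have hidx : R.index ∣ 2 := by
      refine Nat.dvd_of_mul_dvd_mul_left (Nat.two_pow_pos (Nat.card C |>.factorization 2)) ?_
      rw [hprod, ← pow_succ]
      exact Nat.pow_dvd_pow 2 hle
    obtain ⟨s, hs, hsz⟩ : ∃ s ∈ R, IsConj (z : G) (s : G) := by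
      rcases (Nat.dvd_prime Nat.prime_two).1 hidx with h1 | h2
      · exact ⟨z, by rw [Subgroup.index_eq_one.1 h1]; trivial, IsConj.refl _⟩
      · by_contra hne
        exact hno ⟨R, h2, fun s hs hc => hne ⟨s, hs, hc⟩⟩
    obtain ⟨c, hc⟩ := isConj_iff.1 hsz
    refine ⟨g * c, ?_⟩
    obtain ⟨w, -, hw⟩ := (show f s ∈ R₁ from hs)
    have hw' : (w : G) = g * (s : G) * g⁻¹ := by
      simpa [f] using hw
    have hwx := Subgroup.mem_centralizer_singleton_iff.1 w.2
    rw [Subgroup.mem_centralizer_singleton_iff]
    have hgz : (w : G) = (g * c) * (z : G) * (g * c)⁻¹ := by rw [hw', ← hc]; group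
    rw [hgz] at hwx
    calc (g * c)⁻¹ * x * (g * c) * (z : G)
        = (g * c)⁻¹ * (x * ((g * c) * (z : G) * (g * c)⁻¹)) * (g * c) := by group
      _ = (g * c)⁻¹ * (((g * c) * (z : G) * (g * c)⁻¹) * x) * (g * c) := by rw [hwx]
      _ = (z : G) * ((g * c)⁻¹ * x * (g * c)) := by group
  have htop := ClassIndex.eq_top_of_conj_cover hcov
  have hzc : (z : G) ∈ Subgroup.center G := by
    rw [Subgroup.mem_center_iff]
    intro g
    exact Subgroup.mem_centralizer_singleton_iff.1 (htop ▸ Subgroup.mem_top g)
  rw [hZ, Subgroup.mem_bot] at hzc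
  exact hz (Subtype.ext hzc)

/-- A simple group with no class size divisible by four and of even order is commutative. -/
theorem NoFourClass.commutative_of_isSimple (h : NoFourClass G) [IsSimpleGroup G]
    (heven : 2 ∣ Nat.card G) : ∀ a b : G, a * b = b * a := by
  classical
  by_contra hab
  haveI : Fact (Nat.Prime 2) := ⟨Nat.prime_two⟩
  have hZ : Subgroup.center G = ⊥ := by
    rcases (inferInstance : (Subgroup.center G).Normal).eq_bot_or_eq_top with h' | h'
    · exact h'
    · exact absurd (fun a b => (Subgroup.mem_center_iff.1 (h' ▸ Subgroup.mem_top b) a)) hab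
  obtain ⟨S⟩ : Nonempty (Sylow 2 G) := inferInstance
  -- `S` has exponent two
  have hsq : ∀ s : S, s * s = 1 := by
    intro s
    by_contra hs
    obtain ⟨R, hR, hav⟩ := h.exists_index_two hZ S (s * s) hs
    exact hav _ (Subgroup.mul_self_mem_of_index_two hR s) (IsConj.refl _)
  have hcomm : ∀ a b : S, a * b = b * a := by
    intro a b
    have hi : ∀ s : S, s⁻¹ = s := fun s => inv_eq_of_mul_eq_one_left (hsq s)
    calc a * b = (a * b)⁻¹ := (hi _).symm
      _ = b⁻¹ * a⁻¹ := mul_inv_rev a b
      _ = b * a := by rw [hi, hi]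
  have hcommG : ∀ a ∈ (S : Subgroup G), ∀ b ∈ (S : Subgroup G), a * b = b * a := fun a ha b hb =>
    congrArg Subtype.val (hcomm ⟨a, ha⟩ ⟨b, hb⟩)
  letI : CommGroup S := { (inferInstance : Group S) with mul_comm := hcomm }
  obtain ⟨z, hz⟩ : ∃ z : S, z ≠ 1 := by
    have : Nontrivial S := (Subgroup.nontrivial_iff_ne_bot _).2 (S.ne_bot_of_dvd_card heven)
    exact exists_ne 1
  obtain ⟨R, hR, hav⟩ := h.exists_index_two hZ S z hz
  -- the product over the cosets of `S` in its normaliser
  set N := Subgroup.normalizer ((S : Subgroup G) : Set G) with hN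
  have hmem : ∀ (n : N) (s : S), (n : G) * (s : G) * (n : G)⁻¹ ∈ (S : Subgroup G) := fun n s =>
    (Subgroup.mem_normalizer_iff.1 n.2 _).1 s.2
  set SN : Subgroup N := (S : Subgroup G).subgroupOf N with hSN
  haveI : Fintype (N ⧸ SN) := Fintype.ofFinite _
  set φ : N ⧸ SN → S := Quotient.lift (fun n : N => (⟨(n : G) * (z : G) * (n : G)⁻¹, hmem n z⟩ : S))
    (by
      intro a b hab'
      have hd : a⁻¹ * b ∈ SN := QuotientGroup.leftRel_apply.1 hab'
      rw [Subgroup.mem_subgroupOf] at hd
      have hd' : ((a : G)⁻¹ * b) * (z : G) = (z : G) * ((a : G)⁻¹ * b) :=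
        hcommG _ hd _ z.2
      refine Subtype.ext ?_
      show (a : G) * z * (a : G)⁻¹ = b * z * (b : G)⁻¹
      calc (a : G) * z * (a : G)⁻¹ = (a : G) * ((z : G) * ((a : G)⁻¹ * b)) * (b : G)⁻¹ := by group
        _ = (a : G) * (((a : G)⁻¹ * b) * (z : G)) * (b : G)⁻¹ := by rw [← hd']
        _ = b * z * (b : G)⁻¹ := by group) with hφ
  set w : S := ∏ q : N ⧸ SN, φ q with hw
  -- `w` is fixed by the normaliser
  have hfix : ∀ n : N, (n : G) * (w : G) * (n : G)⁻¹ = (w : G) := by
    intro n
    set cn : S →* S := MonoidHom.mk' (fun s => (⟨(n : G) * (s : G) * (n : G)⁻¹, hmem n s⟩ : S))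
      (fun a b => Subtype.ext (by push_cast; group)) with hcn
    have heq : cn w = w := by
      rw [hw, map_prod]
      refine Fintype.prod_equiv (MulAction.toPerm n) _ _ (fun q => ?_)
      induction q using QuotientGroup.induction_on with
      | _ a =>
        refine Subtype.ext ?_
        show (n : G) * ((a : G) * z * (a : G)⁻¹) * (n : G)⁻¹ =
          ((n * a : N) : G) * z * ((n * a : N) : G)⁻¹
        push_cast; group
    exact congrArg Subtype.val heq
  -- `w` lies outside `R`
  have hodd : ¬ 2 ∣ Fintype.card (N ⧸ SN) := by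
    rw [← Nat.card_eq_fintype_card, ← Subgroup.index_eq_card]
    intro hd
    exact S.not_dvd_index (hd.trans (Subgroup.relIndex_dvd_index_of_le Subgroup.le_normalizer))
  have hwR : w ∉ R := by
    intro hwR
    set π := QuotientGroup.mk' R
    have hπw : π w = 1 := (QuotientGroup.eq_one_iff w).2 hwR
    have hne : ∀ q, π (φ q) ≠ 1 := by
      intro q hq
      induction q using QuotientGroup.induction_on with
      | _ a =>
        refine hav _ ((QuotientGroup.eq_one_iff _).1 hq) (isConj_iff.2 ⟨(a : G), rfl⟩)
    have hcard : Nat.card (S ⧸ R) = 2 := by rw [← Subgroup.index_eq_card, hR]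
    obtain ⟨e, he1, he⟩ : ∃ e : S ⧸ R, e ≠ 1 ∧ ∀ q, π (φ q) = e := by
      obtain ⟨e, he, heu⟩ := (Nat.card_eq_two_iff' (1 : S ⧸ R)).1 hcard
      exact ⟨e, he, fun q => heu _ (hne q)⟩
    rw [hw, map_prod, Finset.prod_congr rfl (fun q _ => he q), Finset.prod_const,
      Finset.card_univ] at hπw
    have h2 : orderOf e = 2 := by
      rcases (Nat.dvd_prime Nat.prime_two).1 (hcard ▸ orderOf_dvd_natCard e) with h1 | h1
      · exact absurd (orderOf_eq_one_iff.1 h1) he1
      · exact h1
    exact hodd (h2 ▸ orderOf_dvd_of_pow_eq_one hπw)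
  -- transfer
  have hkey : ∀ (k : ℕ) (g₀ : G), g₀⁻¹ * (w : G) ^ k * g₀ ∈ (S : Subgroup G) →
      g₀⁻¹ * (w : G) ^ k * g₀ = (w : G) ^ k := by
    intro k g₀ hk
    have hcen : ∀ t ∈ (S : Subgroup G), t ∈ Subgroup.centralizer ((S : Subgroup G) : Set G) := by
      intro t ht
      rw [Subgroup.mem_centralizer_iff]
      intro u hu
      exact congrArg Subtype.val (hcomm ⟨u, hu⟩ ⟨t, ht⟩)
    obtain ⟨n, hn, he⟩ := S.conj_eq_normalizer_conj_of_mem_centralizer ((w : G) ^ k) g₀
      (hcen _ ((S : Subgroup G).pow_mem w.2 k)) (hcen _ hk)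
    have hf := hfix ⟨n⁻¹, inv_mem hn⟩
    simp only [inv_inv] at hf
    rw [he]
    calc n⁻¹ * (w : G) ^ k * n = (n⁻¹ * (w : G) * n) ^ k := by
          have := conj_pow (a := n⁻¹) (b := (w : G)) (i := k)
          simpa using this.symm
      _ = (w : G) ^ k := by rw [hf]
  set τ : G →* S := MonoidHom.transfer (MonoidHom.id S) with hτ
  have hτw := MonoidHom.transfer_eq_pow (MonoidHom.id S) (w : G) hkey
  have hτ1 : τ (w : G) = 1 := by
    rcases (inferInstance : τ.ker.Normal).eq_bot_or_eq_top with h' | h'
    · exact absurd (fun a b => (MonoidHom.ker_eq_bot_iff τ).1 h' (by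
        rw [map_mul, map_mul, mul_comm])) hab
    · exact MonoidHom.mem_ker.1 (h' ▸ Subgroup.mem_top _)
  rw [← hτ, hτ1] at hτw
  have hwpow : w ^ (S : Subgroup G).index = 1 := by
    rw [MonoidHom.id_apply] at hτw
    exact Subtype.ext (by simpa using (congrArg Subtype.val hτw).symm)
  apply hwR
  have h2 : orderOf w ∣ 2 := orderOf_dvd_of_pow_eq_one (by rw [sq]; exact hsq w)
  rcases (Nat.dvd_prime Nat.prime_two).1 h2 with h1 | h1
  · rw [orderOf_eq_one_iff.1 h1]; exact one_mem R
  · have h3 := orderOf_dvd_of_pow_eq_one hwpow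
    rw [h1] at h3
    exact absurd h3 S.not_dvd_index

end

/-- If four divides no class size the group is soluble, given the odd order hypothesis. -/
theorem isSolvable_of_noFourClass (hFT : OddSolvable.{u}) :
    ∀ (n : ℕ) (G : Type u) [Group G] [Finite G], Nat.card G ≤ n → NoFourClass G →
      Group.IsSolvable G := by
  intro n
  induction n with
  | zero => intro G _ _ hn _; exact absurd hn (by have := Nat.card_pos (α := G); omega)
  | succ n ih =>
    intro G _ _ hn hG
    by_cases hnt : Nontrivial G
    swap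
    · rw [not_nontrivial_iff_subsingleton] at hnt
      infer_instance
    by_cases hN : ∃ N : Subgroup G, N.Normal ∧ N ≠ ⊥ ∧ N ≠ ⊤
    · obtain ⟨N, hNn, hN1, hN2⟩ := hN
      have h1 := N.card_mul_index
      have h2 := N.one_lt_index_of_ne_top hN2
      have h3 : 1 < Nat.card N := (Subgroup.one_lt_card_iff_ne_bot N).2 hN1
      haveI : Group.IsSolvable N := ih N (by nlinarith) (hG.normal N)
      haveI : Group.IsSolvable (G ⧸ N) :=
        ih (G ⧸ N) (by rw [← Subgroup.index_eq_card]; nlinarith) (hG.quotient N)
      exact isSolvable_of_normal N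
    · haveI : IsSimpleGroup G :=
        { eq_bot_or_eq_top_of_normal := fun N hNn => by
            by_contra hne
            rw [not_or] at hne
            exact hN ⟨N, hNn, hne.1, hne.2⟩ }
      by_cases heven : 2 ∣ Nat.card G
      · exact Group.isSolvable_of_comm (hG.commutative_of_isSimple heven)
      · exact hFT G (Nat.odd_iff.2 (by omega))

end Cfsg.Agent.OddUse
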