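import Cfsg.Agent.Lib.OddUse.Hyp
import Cfsg.Agent.Lib.FPF.Chief
import Cfsg.Agent.Lib.Coprime.Action
import Cfsg.Agent.Lib.PLocal.Functor
import Cfsg.Agent.Lib.Transfer.Residual
import Cfsg.Agent.Lib.Solvable.NilpotentHall
import Cfsg.Agent.Lib.NilGroup.Basic
import Cfsg.Agent.Lib.Cores.Fitting
import Cfsg.Agent.S0117
import Cfsg.Agent.EqLemmas

/-!
Coprime operator groups for which every invariant proper subgroup is nilpotent.
-/

set_option autoImplicit false
set_option linter.style.haveILetI false

namespace Cfsg.Agent.OddUse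

open Cfsg.Agent.FPF

universe u v

variable {A : Type v} [Group A]

/-- Every invariant proper subgroup is nilpotent. -/
def AllProperNilpotent {G : Type u} [Group G] (act : A →* MulAut G) : Prop :=
  ∀ H : Subgroup G, Inv act H → H ≠ ⊤ → Group.IsNilpotent H

/-- It is enough to know this for the maximal ones. -/
theorem allProperNilpotent_of_maximal {G : Type u} [Group G] [Finite G] (act : A →* MulAut G)
    (hmax : ∀ H : Subgroup G, H ≠ ⊤ → Inv act H →
      (∀ K : Subgroup G, H < K → Inv act K → K = ⊤) → Group.IsNilpotent H) :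
    AllProperNilpotent act := by
  intro H hH hne
  obtain ⟨M, hHM, hM⟩ := Finite.exists_le_maximal
    (p := fun X : Subgroup G => Inv act X ∧ X ≠ ⊤) ⟨hH, hne⟩
  have hMn := hmax M hM.prop.2 hM.prop.1 fun K hK hKi => by
    by_contra h
    exact hM.not_gt ⟨hKi, h⟩ hK
  exact Cores.isNilpotent_of_le hHM hMn

theorem allProperNilpotent_quot {G : Type u} [Group G] {act : A →* MulAut G}
    (h : AllProperNilpotent act) (N : Subgroup G) [N.Normal] (hN : Inv act N) :
    AllProperNilpotent (quotAct act N hN) := by
  intro H hH hne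
  let K := H.comap (QuotientGroup.mk' N)
  have hKi : Inv act K := by
    intro a x hx
    exact hH a (x : G ⧸ N) hx
  have hKne : K ≠ ⊤ := fun e => hne (Subgroup.comap_injective (QuotientGroup.mk'_surjective N)
    (e.trans (Subgroup.comap_top _).symm))
  haveI := h K hKi hKne
  exact Group.nilpotent_of_surjective ((QuotientGroup.mk' N).subgroupComap H)
    (MonoidHom.subgroupComap_surjective_of_surjective _ _ (QuotientGroup.mk'_surjective N))

/-- With a soluble operator group, such a group is soluble. -/
theorem isSolvable_of_allProperNilpotent [Finite A] (hA : Group.IsSolvable A) :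
    ∀ (n : ℕ) (G : Type u) [Group G] [Finite G], Nat.card G ≤ n → ∀ act : A →* MulAut G,
      (Nat.card A).Coprime (Nat.card G) → AllProperNilpotent act → Group.IsSolvable G := by
  classical
  intro n
  induction n with
  | zero =>
    intro G _ _ hc
    have := Nat.card_pos (α := G)
    omega
  | succ n ih =>
    intro G _ _ hc act hcop hprop
    by_cases hmin : ∃ N : Subgroup G, N.Normal ∧ Inv act N ∧ N ≠ ⊥ ∧ N ≠ ⊤
    · obtain ⟨N, hNn, hNi, hb, ht⟩ := hmin
      haveI := hNn
      haveI := hprop N hNi ht
      haveI : Group.IsSolvable (G ⧸ N) := ih _ (by have := card_quot_lt hb; omega) (quotAct act N hNi)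
        (hcop.coprime_dvd_right (Subgroup.card_quotient_dvd_card N))
        (allProperNilpotent_quot hprop N hNi)
      exact isSolvable_of_normal N
    push Not at hmin
    by_cases h2 : ∀ q : ℕ, q.Prime → q ∣ Nat.card G → q = 2
    · obtain ⟨k, hk⟩ : ∃ k, Nat.card G = 2 ^ k :=
        ⟨_, Nat.eq_prime_pow_of_unique_prime_dvd Nat.card_pos.ne' fun {q} hq hd => h2 q hq hd⟩
      haveI := Fact.mk Nat.prime_two
      haveI := (IsPGroup.of_card hk).isNilpotent
      infer_instance
    simp only [not_forall] at h2
    obtain ⟨q, hq, hqd, hq2⟩ := h2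
    haveI := Fact.mk hq
    letI : MulDistribMulAction A G := MulDistribMulAction.compHom G act
    obtain ⟨Q, hQ⟩ := Coprime.exists_smul_invariant_sylow hcop (Or.inl hA) q
    have hQi : Inv act (Q : Subgroup G) := hQ
    have hQne : (Q : Subgroup G) ≠ ⊥ := Q.ne_bot_of_dvd_card hqd
    have hQtop : (Q : Subgroup G) = ⊤ → Group.IsSolvable G := fun e => by
      haveI := Q.2.isNilpotent
      haveI : Group.IsNilpotent G :=
        (Group.isNilpotent_congr ((MulEquiv.subgroupCongr e).trans Subgroup.topEquiv)).mp inferInstance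
      infer_instance
    obtain ⟨z, hz, hz1, hzq⟩ := PLocal.exists_central_of_order_p Q.2 hQne
    set W := Cfsg.centerThompsonOf q (Q : Subgroup G) with hW
    have hWne : W ≠ ⊥ := fun e => hz1 (by
      have := PLocal.central_le_centerThompsonOf (p := q) hz hzq
      rw [← hW, e, Subgroup.mem_bot] at this
      exact this)
    have hWi : Inv act W := fun a x hx => by
      have h : W.map (act a).toMonoidHom = W := by
        rw [hW, PLocal.map_centerThompsonOf _ (act a).injective.injOn, map_eq_of_inv act hQi a]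
      exact h ▸ ⟨x, hx, rfl⟩
    by_cases htop : Subgroup.normalizer (W : Set G) = ⊤
    · refine hQtop (top_le_iff.mp ?_)
      rw [← hmin W (Subgroup.normalizer_eq_top_iff.mp htop) hWi hWne]
      exact inf_le_left.trans (PLocal.thompsonSubgroupOf_le _)
    · have hNi : Inv act (Subgroup.normalizer (W : Set G)) := by
        intro a x hx
        rw [Subgroup.mem_normalizer_iff] at hx ⊢
        intro y
        have hmem : ∀ (b : A) (z : G), act b z ∈ W ↔ z ∈ W := fun b z =>
          ⟨fun h => inv_apply_apply act b z ▸ hWi b⁻¹ _ h, hWi b z⟩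
        have e : act a⁻¹ (act a x * y * (act a x)⁻¹) = x * act a⁻¹ y * x⁻¹ := by
          rw [map_mul, map_mul, map_inv (act a⁻¹), inv_apply_apply]
        rw [← hmem a⁻¹ (act a x * y * (act a x)⁻¹), e, ← hx, hmem]
      haveI := hprop _ hNi htop
      have hcomp := (Cfsg.Agent.S0117.result hq2 Q).mpr Solvable.hasNormalPComplement_of_isNilpotent
      have hcp := (Transfer.hasNormalPComplement_iff_coprime (p := q) (G := G)).mp hcomp
      have hKne : pResidual q G ≠ ⊤ := fun e => by
        rw [e, Subgroup.card_top] at hcp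
        exact (hq.coprime_iff_not_dvd.mp hcp.symm) hqd
      by_cases hKb : pResidual q G = ⊥
      · have hP : IsPGroup q G := fun g => by
          obtain ⟨k, hk⟩ := (Transfer.isPGroup_quotient_pResidual (p := q) (G := G)) (g : G ⧸ pResidual q G)
          refine ⟨k, ?_⟩
          rw [← QuotientGroup.mk_pow, QuotientGroup.eq_one_iff, hKb, Subgroup.mem_bot] at hk
          exact hk
        haveI := hP.isNilpotent
        infer_instance
      · exact absurd (hmin _ Transfer.pResidual_normal (inv_of_characteristic act _) hKb) hKne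

theorem exists_pResidual_ne_top {G : Type u} [Group G] [Finite G] [Nontrivial G] (hG : Group.IsSolvable G) :
    ∃ r : ℕ, r.Prime ∧ r ∣ Nat.card G ∧ pResidual r G ≠ ⊤ := by
  have hlt : commutator G < ⊤ := Group.IsSolvable.commutator_lt_top_of_nontrivial G
  have hne : Nat.card (G ⧸ commutator G) ≠ 1 := fun h =>
    hlt.ne (Subgroup.index_eq_one.mp h)
  obtain ⟨r, hr, hrd⟩ := Nat.exists_prime_and_dvd hne
  haveI := Fact.mk hr
  refine ⟨r, hr, hrd.trans (Subgroup.card_quotient_dvd_card _), fun htop => ?_⟩
  obtain ⟨x, hx⟩ := exists_prime_orderOf_dvd_card' r hrd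
  have hall : ∀ y ∈ pResidual r (G ⧸ commutator G), (orderOf y).Coprime r := by
    intro y hy
    refine Subgroup.closure_induction (p := fun y _ => (orderOf y).Coprime r) (fun y hy => hy) (by simp)
      (fun a b _ _ ha hb => Nat.Coprime.coprime_dvd_left ?_ (ha.mul_left hb))
      (fun a _ ha => by rwa [orderOf_inv]) hy
    have hc : Commute a b := Commute.all (S := Abelianization G) a b
    exact hc.orderOf_mul_dvd_mul_orderOf
  have hxm : x ∈ pResidual r (G ⧸ commutator G) := by
    obtain ⟨g, rfl⟩ := QuotientGroup.mk'_surjective (commutator G) x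
    exact Transfer.map_pResidual_le _ ⟨g, htop ▸ Subgroup.mem_top g, rfl⟩
  exact hr.ne_one (Nat.eq_one_of_dvd_coprimes (hx ▸ hall x hxm) dvd_rfl dvd_rfl)

/-- The structure of such a group when it is soluble and not nilpotent. -/
theorem structure_of_allProperNilpotent [Finite A] {G : Type u} [Group G] [Finite G]
    (act : A →* MulAut G) (hcop : (Nat.card A).Coprime (Nat.card G)) (hprop : AllProperNilpotent act)
    (hsolv : Group.IsSolvable G) (hG : ¬ Group.IsNilpotent G) :
    (∃ p q a b : ℕ, p.Prime ∧ q.Prime ∧ p ≠ q ∧ Nat.card G = p ^ a * q ^ b) ∧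
      ∃ (p : ℕ) (P : Sylow p G), p.Prime ∧ p ∣ Nat.card G ∧ (P : Subgroup G).Normal ∧
        Inv act (P : Subgroup G) := by
  classical
  haveI : Nontrivial G := by
    by_contra h
    haveI := not_nontrivial_iff_subsingleton.mp h
    exact hG inferInstance
  obtain ⟨r, hr, hrd, hK⟩ := exists_pResidual_ne_top hsolv
  haveI := Fact.mk hr
  letI : MulDistribMulAction A G := MulDistribMulAction.compHom G act
  haveI hKnil := hprop _ (inv_of_characteristic act (pResidual r G)) hK
  have hnorm : ∀ s : ℕ, s.Prime → s ≠ r → ∀ S : Sylow s G, (S : Subgroup G).Normal := by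
    intro s hs hsr S
    haveI := Fact.mk hs
    have hle : (S : Subgroup G) ≤ pResidual r G := fun x hx => by
      obtain ⟨k, hk⟩ := IsPGroup.iff_orderOf.mp S.2 ⟨x, hx⟩
      refine Transfer.mem_pResidual_of_coprime ?_
      rw [← Subgroup.orderOf_mk x hx, hk]
      exact ((Nat.coprime_primes hs hr).mpr hsr).pow_left k
    haveI : ((S.subtype hle : Sylow s (pResidual r G)) : Subgroup (pResidual r G)).Characteristic :=
      (S.subtype hle).characteristic_of_normal inferInstance
    have h : (((S.subtype hle : Sylow s (pResidual r G)) : Subgroup (pResidual r G)).map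
        (pResidual r G).subtype).Normal := inferInstance
    rwa [Sylow.coe_subtype, Subgroup.subgroupOf_map_subtype, inf_eq_left.mpr hle] at h
  obtain ⟨R, hR⟩ := Coprime.exists_smul_invariant_sylow hcop (Or.inr hsolv) r
  have hex : ∃ s : ℕ, s.Prime ∧ s ∣ Nat.card G ∧ s ≠ r := by
    by_contra h
    push Not at h
    obtain ⟨k, hk⟩ : ∃ k, Nat.card G = r ^ k :=
      ⟨_, Nat.eq_prime_pow_of_unique_prime_dvd Nat.card_pos.ne' fun {q} hq hd => h q hq hd⟩
    exact hG (IsPGroup.of_card hk).isNilpotent
  obtain ⟨s, hs, hsd, hsr⟩ := hex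
  haveI := Fact.mk hs
  obtain ⟨S, hS⟩ := Coprime.exists_smul_invariant_sylow hcop (Or.inr hsolv) s
  have hSn := hnorm s hs hsr S
  refine ⟨?_, s, S, hs, hsd, hSn, hS⟩
  have hall : ∀ t : ℕ, t.Prime → t ∣ Nat.card G → t = r ∨ t = s := by
    intro t ht htd
    by_contra hne
    push Not at hne
    -- each other Sylow subgroup commutes with `R`, so `R` is normal too
    have hle : ∀ l : ℕ, l.Prime → l ≠ r → ∀ L : Sylow l G, Inv act (L : Subgroup G) →
        (L : Subgroup G) ≤ Subgroup.normalizer ((R : Subgroup G) : Set G) := by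
      intro l hl hlr L hL
      haveI := Fact.mk hl
      haveI := hnorm l hl hlr L
      obtain ⟨m, hm, hmd, hmr, hml⟩ : ∃ m : ℕ, m.Prime ∧ m ∣ Nat.card G ∧ m ≠ r ∧ m ≠ l := by
        by_cases h : l = s
        · exact ⟨t, ht, htd, hne.1, fun e => hne.2 (e.trans h)⟩
        · exact ⟨s, hs, hsd, hsr, fun e => h e.symm⟩
      haveI := Fact.mk hm
      have hJne : (R : Subgroup G) ⊔ L ≠ ⊤ := by
        intro htop
        obtain ⟨x, hx⟩ := exists_prime_orderOf_dvd_card' m hmd
        have hmap : (R : Subgroup G).map (QuotientGroup.mk' (L : Subgroup G)) = ⊤ := by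
          have h1 : ((R : Subgroup G) ⊔ L).map (QuotientGroup.mk' (L : Subgroup G)) = ⊤ := by
            rw [htop, Subgroup.map_top_of_surjective _ (QuotientGroup.mk'_surjective _)]
          rwa [Subgroup.map_sup, (Subgroup.map_eq_bot_iff _).mpr (QuotientGroup.ker_mk' _).ge,
            sup_bot_eq] at h1
        have hP : IsPGroup r (G ⧸ (L : Subgroup G)) := by
          have h1 := R.2.map (QuotientGroup.mk' (L : Subgroup G))
          rw [hmap] at h1
          exact h1.of_equiv Subgroup.topEquiv
        have hxL : x ∈ (L : Subgroup G) := by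
          rw [← QuotientGroup.eq_one_iff]
          exact Transfer.map_eq_one_of_coprime hP (QuotientGroup.mk' (L : Subgroup G))
            (hx ▸ (Nat.coprime_primes hm hr).mpr hmr)
        obtain ⟨k, hk⟩ := IsPGroup.iff_orderOf.mp L.2 ⟨x, hxL⟩
        rw [Subgroup.orderOf_mk, hx] at hk
        exact hml ((Nat.prime_dvd_prime_iff_eq hm hl).mp (hm.dvd_of_dvd_pow hk.dvd))
      have hJn := hprop _ (inv_sup act hR hL) hJne
      intro x hx
      refine Coprime.mem_normalizer_of_forall fun y hy => ?_
      obtain ⟨i, hi⟩ := IsPGroup.iff_orderOf.mp L.2 ⟨x, hx⟩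
      obtain ⟨j, hj⟩ := IsPGroup.iff_orderOf.mp R.2 ⟨y, hy⟩
      rw [Subgroup.orderOf_mk] at hi hj
      have hc := NilGroup.commute_of_coprime hJn
        (x := ⟨x, Subgroup.mem_sup_right hx⟩) (y := ⟨y, Subgroup.mem_sup_left hy⟩)
        (by rw [Subgroup.orderOf_mk, Subgroup.orderOf_mk, hi, hj]
            exact Nat.Coprime.pow i j ((Nat.coprime_primes hl hr).mpr hlr))
      have hc' : x * y = y * x := congrArg Subtype.val hc.eq
      rw [hc', mul_assoc, mul_inv_cancel, mul_one]
      exact hy
    have hRn : (R : Subgroup G).Normal := by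
      rw [← Subgroup.normalizer_eq_top_iff]
      refine Subgroup.eq_top_of_card_eq _ (Nat.dvd_antisymm (Subgroup.card_subgroup_dvd_card _) ?_)
      refine (Nat.dvd_iff_prime_pow_dvd_dvd _ _).mpr fun l k hl hlk => ?_
      haveI := Fact.mk hl
      by_cases hlr : l = r
      · subst hlr
        exact (R.pow_dvd_card_of_pow_dvd_card hlk).trans
          (Subgroup.card_dvd_of_le Subgroup.le_normalizer)
      · obtain ⟨L, hL⟩ := Coprime.exists_smul_invariant_sylow hcop (Or.inr hsolv) l
        exact (L.pow_dvd_card_of_pow_dvd_card hlk).trans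
          (Subgroup.card_dvd_of_le (hle l hl hlr L hL))
    refine hG ((Group.isNilpotent_of_finite_tfae (G := G)).out 0 3 rfl rfl |>.mpr fun l hl L => ?_)
    by_cases hlr : l = r
    · subst hlr
      haveI := Sylow.unique_of_normal R hRn
      rw [Subsingleton.elim L R]
      exact hRn
    · exact hnorm l hl.out hlr L
  refine ⟨r, s, ?_⟩
  obtain ⟨k, hk⟩ := IsPGroup.iff_card.mp R.2
  obtain ⟨b, hb⟩ : ∃ b, (R : Subgroup G).index = s ^ b :=
    ⟨_, Nat.eq_prime_pow_of_unique_prime_dvd Subgroup.index_ne_zero_of_finite fun {q} hq hd =>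
      (hall q hq (hd.trans (Subgroup.index_dvd_card _))).resolve_left fun e =>
        R.not_dvd_index (e ▸ hd)⟩
  exact ⟨k, b, hr, hs, hsr.symm, by rw [← (R : Subgroup G).card_mul_index, hk, hb]⟩

/-- Coprime operators with all maximal invariant proper subgroups nilpotent, modulo the odd order statement. -/
theorem invariant_maximal_nilpotent (hFT : OddSolvable.{u}) (hFTA : OddSolvable.{v}) {G : Type u}
    [Group G] [Finite A] [Finite G] (act : A →* MulAut G) (hcop : (Nat.card A).Coprime (Nat.card G))
    (hmax : ∀ H : Subgroup G, H ≠ ⊤ → Inv act H →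
      (∀ K : Subgroup G, H < K → Inv act K → K = ⊤) → Group.IsNilpotent H)
    (hG : ¬ Group.IsNilpotent G) :
    Group.IsSolvable G ∧
      (∃ p q a b : ℕ, p.Prime ∧ q.Prime ∧ p ≠ q ∧ Nat.card G = p ^ a * q ^ b) ∧
      ∃ (p : ℕ) (P : Sylow p G), p.Prime ∧ p ∣ Nat.card G ∧ (P : Subgroup G).Normal ∧
        Inv act (P : Subgroup G) := by
  have hprop := allProperNilpotent_of_maximal act hmax
  have hsolv : Group.IsSolvable G := by
    rcases Nat.even_or_odd (Nat.card G) with he | ho
    · refine isSolvable_of_allProperNilpotent (hFTA A ?_) _ G le_rfl act hcop hprop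
      rcases Nat.even_or_odd (Nat.card A) with heA | hoA
      · exact absurd (Nat.eq_one_of_dvd_coprimes hcop heA.two_dvd he.two_dvd) (by norm_num)
      · exact hoA
    · exact hFT G ho
  exact ⟨hsolv, structure_of_allProperNilpotent act hcop hprop hsolv hG⟩

end Cfsg.Agent.OddUse
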