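/-
Groups with metacyclic Sylow 2-subgroups having a cyclic quotient of order greater than two, given
the odd order hypothesis.
-/
import Cfsg.Agent.Lib.OddUse.Hyp
import Cfsg.Agent.Lib.FusionMetaTwo.Systems
import Cfsg.Agent.Lib.Cores.Basic
import Cfsg.Agent.S0949
import Cfsg.Prelude.Def_CaseTheorems

set_option autoImplicit false

namespace Cfsg.Agent.OddUse

open Cfsg Cfsg.FusionSystem Cfsg.Agent.Fusion Cfsg.Agent.FusionMetaTwo

universe u

variable {G : Type u} [Group G] [Finite G]

/-- A metacyclic Sylow 2-subgroup outside the short list controls its own fusion. -/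
theorem noFusion_of_metacyclic (P : Sylow 2 G) (hm : Cfsg.IsMetacyclic ↥(P : Subgroup G))
    (hx : ¬ MaxClassTwo ↥(P : Subgroup G))
    (hh : ¬ ∃ n : ℕ, 0 < n ∧ Nonempty (↥(P : Subgroup G) ≃*
      Multiplicative (ZMod (2 ^ n)) × Multiplicative (ZMod (2 ^ n)))) :
    IsolatedElts.NoFusion (P : Subgroup G) := by
  haveI : Fact (Nat.Prime 2) := ⟨Nat.prime_two⟩
  set S : Subgroup G := (P : Subgroup G)
  have hS : IsPGroup 2 S := P.2
  have hA : IsPGroup 2 (MulAut S) := aut_isPGroup_two hS hm hh hx
  set ι : S →* G := S.subtype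
  have hι : Function.Injective ι := S.subtype_injective
  have hr : ι.range = S := Subgroup.range_subtype S
  have hF := isSaturated_of_realized (realSys_isRealizedBy ι hι) ⟨P, hr.symm⟩
  rintro x hx' y hy ⟨g, hg⟩
  set R : Subgroup G := Subgroup.zpowers x
  have hR : R ≤ S := Subgroup.zpowers_le.2 hx'
  let φ : R →* G := (MulAut.conj g).toMonoidHom.comp R.subtype
  have hφS : ∀ z : R, φ z ∈ S := by
    rintro ⟨z, hz⟩
    obtain ⟨k, rfl⟩ := Subgroup.mem_zpowers_iff.1 hz
    show g * x ^ k * g⁻¹ ∈ S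
    rw [← conj_zpow, hg]
    exact S.zpow_mem hy k
  have hφ : φ ∈ (realSys ι hι).Hom R := ⟨hR, hφS, g, fun z => rfl⟩
  obtain ⟨u, hu, hue⟩ := inner_of_normal hS hF (isNormal_two hS hm hx hF) hA (isMap_toFn hφ)
  refine ⟨u, hu, ?_⟩
  have h1 := hue x (Subgroup.mem_zpowers _)
  rw [toFn_apply φ (Subgroup.mem_zpowers _)] at h1
  exact h1.symm.trans hg

/-- A cyclic group generated by two elements of square one has at most two elements. -/
theorem card_le_two {Q : Type*} [Group Q] [Finite Q] [IsCyclic Q] {u v : Q}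
    (hu : u ^ 2 = 1) (hv : v ^ 2 = 1) (h : Subgroup.closure ({u, v} : Set Q) = ⊤) :
    Nat.card Q ≤ 2 := by
  obtain ⟨g, hg⟩ := IsCyclic.exists_ofOrder_eq_natCard (α := Q)
  rw [← hg]
  refine Nat.le_of_dvd two_pos (orderOf_dvd_of_pow_eq_one ?_)
  letI : CommGroup Q := IsCyclic.commGroup
  have key : ∀ a ∈ Subgroup.closure ({u, v} : Set Q), a ^ 2 = 1 := by
    intro a ha
    induction ha using Subgroup.closure_induction with
    | mem a ha => rcases ha with rfl | rfl <;> assumption
    | one => exact one_pow 2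
    | mul a b _ _ ha hb => rw [mul_pow, ha, hb, one_mul]
    | inv a _ ha => rw [inv_pow, ha, inv_one]
  exact key g (h ▸ Subgroup.mem_top g)

/-- A group on the short list has only small cyclic quotients. -/
theorem card_le_two_of_maxClassTwo {X Q : Type*} [Group X] [Finite X] [Group Q] [Finite Q]
    [IsCyclic Q] (hX : IsPGroup 2 X) (f : X →* Q) (hf : Function.Surjective f)
    (hx : MaxClassTwo X) : Nat.card Q ≤ 2 := by
  haveI : Fact (Nat.Prime 2) := ⟨Nat.prime_two⟩
  have hc : ∀ a b : Q, a * b = b * a := fun a b => mul_comm' a b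
  rcases hx with ⟨n, -, ⟨e⟩⟩ | ⟨n, hn, hcard, x, y, hox, hoy, hrel⟩ | ⟨n, hn, ⟨e⟩⟩
  · set g := f.comp e.symm.toMonoidHom with hgdef
    have hg : Function.Surjective g := hf.comp e.symm.surjective
    refine card_le_two (u := g (DihedralGroup.sr 0)) (v := g (DihedralGroup.sr 1)) ?_ ?_ ?_
    · rw [← map_pow, sq, DihedralGroup.sr_mul_self, map_one]
    · rw [← map_pow, sq, DihedralGroup.sr_mul_self, map_one]
    · rw [eq_top_iff]
      intro q _
      obtain ⟨d, rfl⟩ := hg q
      have h0 : g (DihedralGroup.sr 0) ∈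
          Subgroup.closure ({g (DihedralGroup.sr 0), g (DihedralGroup.sr 1)} : Set Q) :=
        Subgroup.subset_closure (Or.inl rfl)
      have h1 : g (DihedralGroup.sr 1) ∈
          Subgroup.closure ({g (DihedralGroup.sr 0), g (DihedralGroup.sr 1)} : Set Q) :=
        Subgroup.subset_closure (Or.inr rfl)
      have hr1 : g (DihedralGroup.r 1) ∈
          Subgroup.closure ({g (DihedralGroup.sr 0), g (DihedralGroup.sr 1)} : Set Q) := by
        have : g (DihedralGroup.r 1) = g (DihedralGroup.sr 0) * g (DihedralGroup.sr 1) := by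
          rw [← map_mul, DihedralGroup.sr_mul_sr, sub_zero]
        rw [this]; exact mul_mem h0 h1
      rcases d with i | i
      · rw [← ZMod.intCast_zmod_cast i, ← DihedralGroup.r_one_zpow, map_zpow]
        exact Subgroup.zpow_mem _ hr1 _
      · rw [show DihedralGroup.sr i = DihedralGroup.sr 0 * DihedralGroup.r 1 ^ (i.cast : ℤ) by
          rw [DihedralGroup.r_one_zpow, ZMod.intCast_zmod_cast, DihedralGroup.sr_mul_r, zero_add],
          map_mul, map_zpow]
        exact mul_mem h0 (Subgroup.zpow_mem _ hr1 _)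
  · have hw : f x ^ 2 = 1 := by
      have h1 : f x ^ (2 ^ (n - 1) - 1) = f x := by
        rw [← map_pow, ← hrel, map_mul, map_mul, map_inv, hc (f y), mul_inv_cancel_right]
      have h2 : f x ^ (2 ^ n) = 1 := by rw [← map_pow, ← hox, pow_orderOf_eq_one, map_one]
      obtain ⟨k, rfl⟩ : ∃ k, n = k + 3 := ⟨n - 3, by omega⟩
      have hp : 4 ≤ 2 ^ (k + 2) := by
        calc 4 = 2 ^ 2 := rfl
          _ ≤ 2 ^ (k + 2) := Nat.pow_le_pow_right two_pos (by omega)
      have h3 : f x ^ (2 ^ (k + 2) - 2) = 1 := by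
        have : f x ^ (2 ^ (k + 2) - 2) * f x = 1 * f x := by
          rw [← pow_succ, one_mul, show 2 ^ (k + 2) - 2 + 1 = 2 ^ (k + 3 - 1) - 1 by
            rw [show k + 3 - 1 = k + 2 by omega]; omega]
          exact h1
        exact mul_right_cancel this
      have hd : orderOf (f x) ∣ Nat.gcd (2 ^ (k + 2) - 2) (2 ^ (k + 3)) :=
        Nat.dvd_gcd (orderOf_dvd_of_pow_eq_one h3) (orderOf_dvd_of_pow_eq_one h2)
      have hg2 : Nat.gcd (2 ^ (k + 2) - 2) (2 ^ (k + 3)) = 2 := by
        rw [show 2 ^ (k + 2) - 2 = 2 * (2 ^ (k + 1) - 1) by rw [pow_succ]; omega,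
          show 2 ^ (k + 3) = 2 * 2 ^ (k + 2) by ring, Nat.gcd_mul_left]
        have : Nat.Coprime (2 ^ (k + 1) - 1) (2 ^ (k + 2)) := by
          refine Nat.Coprime.pow_right _ ?_
          refine (Nat.prime_two.coprime_iff_not_dvd.2 ?_).symm
          have h4 : 2 ^ (k + 1) = 2 * 2 ^ k := by ring
          have h5 : 1 ≤ 2 ^ k := Nat.one_le_pow _ _ two_pos
          omega
        rw [this.gcd_eq_one]
      rw [hg2] at hd
      exact orderOf_dvd_iff_pow_eq_one.1 hd
    refine card_le_two hw (by rw [← map_pow, ← hoy, pow_orderOf_eq_one, map_one] : f y ^ 2 = 1) ?_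
    have hyx : y ∉ Subgroup.zpowers x := by
      intro hy
      obtain ⟨i, rfl⟩ := Subgroup.mem_zpowers_iff.1 hy
      rw [(Commute.zpow_self x i).eq, mul_inv_cancel_right] at hrel
      have h1 : x ^ (2 ^ (n - 1) - 1) = x ^ 1 := by rw [pow_one]; exact hrel.symm
      have h8 : 4 ≤ 2 ^ (n - 1) := by
        calc 4 = 2 ^ 2 := rfl
          _ ≤ 2 ^ (n - 1) := Nat.pow_le_pow_right two_pos (by omega)
      have h9 : 2 ^ n = 2 * 2 ^ (n - 1) := by
        rw [← pow_succ']; congr 1; omega
      have := pow_injOn_Iio_orderOf (x := x) (Set.mem_Iio.2 (by omega)) (Set.mem_Iio.2 (by omega)) h1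
      omega
    have htop : Subgroup.closure ({x, y} : Set X) = ⊤ := by
      set W := Subgroup.closure ({x, y} : Set X)
      have hle : Subgroup.zpowers x ≤ W :=
        Subgroup.zpowers_le.2 (Subgroup.subset_closure (Or.inl rfl))
      refine Subgroup.eq_top_of_card_eq _ (le_antisymm (Nat.le_of_dvd Nat.card_pos
        (Subgroup.card_subgroup_dvd_card W)) ?_)
      have hlt : Nat.card (Subgroup.zpowers x) < Nat.card W := by
        refine lt_of_le_of_ne (Subgroup.card_le_of_le hle) fun he => hyx ?_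
        rw [Subgroup.eq_of_le_of_card_ge hle he.ge]
        exact Subgroup.subset_closure (Or.inr rfl)
      obtain ⟨j, hj⟩ := IsPGroup.iff_card.1 (hX.to_subgroup W)
      rw [Nat.card_zpowers, hox, hj] at hlt
      rw [hcard, hj]
      exact Nat.pow_le_pow_right two_pos (Nat.succ_le_of_lt ((Nat.pow_lt_pow_iff_right one_lt_two).1 hlt))
    have := congrArg (Subgroup.map f) htop
    rwa [MonoidHom.map_closure, Set.image_pair, Subgroup.map_top_of_surjective f hf] at this
  · set g := f.comp e.symm.toMonoidHom with hgdef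
    have hg : Function.Surjective g := hf.comp e.symm.surjective
    haveI : NeZero n := ⟨by omega⟩
    set v := g (QuaternionGroup.xa 0) with hv
    set w := g (QuaternionGroup.a 1) with hw
    have hconj : QuaternionGroup.xa (0 : ZMod (2 * n)) * QuaternionGroup.a 1 =
        QuaternionGroup.a (-1) * QuaternionGroup.xa 0 := by
      simp
    have hw2 : w ^ 2 = 1 := by
      have h1 := congrArg g hconj
      rw [map_mul, map_mul, hc _ v] at h1
      have h2 : g (QuaternionGroup.a (-1 : ZMod (2 * n))) = w⁻¹ := by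
        rw [hw, ← map_inv]; rfl
      rw [h2] at h1
      have h3 : w = w⁻¹ := by
        simpa [← hv, ← hw, hc w⁻¹ v] using h1
      rw [sq]; nth_rewrite 2 [h3]; exact mul_inv_cancel w
    have hev : 2 ∣ n := by
      obtain ⟨j, hj⟩ := IsPGroup.iff_card.1 hX
      rw [Nat.card_congr e.toEquiv, Nat.card_eq_fintype_card, QuaternionGroup.card] at hj
      have : n ∣ 2 ^ j := hj ▸ dvd_mul_left n 4
      obtain ⟨i, -, rfl⟩ := (Nat.dvd_prime_pow Nat.prime_two).1 this
      rcases i with _ | i
      · simp at hn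
      · exact dvd_pow_self 2 (Nat.succ_ne_zero i)
    have hv2 : v ^ 2 = 1 := by
      obtain ⟨i, rfl⟩ := hev
      rw [hv, ← map_pow, QuaternionGroup.xa_sq, ← QuaternionGroup.a_one_pow, map_pow, pow_mul,
        ← hw, hw2, one_pow]
    refine card_le_two hw2 hv2 ?_
    rw [eq_top_iff]
    intro q _
    obtain ⟨d, rfl⟩ := hg q
    have h0 : v ∈ Subgroup.closure ({w, v} : Set Q) := Subgroup.subset_closure (Or.inr rfl)
    have h1 : w ∈ Subgroup.closure ({w, v} : Set Q) := Subgroup.subset_closure (Or.inl rfl)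
    rcases d with i | i
    · rw [← ZMod.natCast_zmod_val i, ← QuaternionGroup.a_one_pow, map_pow]
      exact pow_mem h1 _
    · rw [show QuaternionGroup.xa i = QuaternionGroup.xa 0 * QuaternionGroup.a 1 ^ i.val by
        rw [QuaternionGroup.a_one_pow, ZMod.natCast_zmod_val, QuaternionGroup.xa_mul_a, zero_add],
        map_mul, map_pow]
      exact mul_mem h0 (pow_mem h1 _)

/-- A metacyclic Sylow 2-subgroup with a cyclic quotient of order greater than two forces solubility
of the group, given the odd order hypothesis. -/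
theorem isSolvable_of_metacyclic (hFT : OddSolvable.{u}) (S : Sylow 2 G)
    (N : Subgroup ↥(S : Subgroup G)) [N.Normal] (hNc : IsCyclic N)
    (hQc : IsCyclic (↥(S : Subgroup G) ⧸ N)) (hQ : 2 < Nat.card (↥(S : Subgroup G) ⧸ N)) :
    Group.IsSolvable G := by
  haveI : Fact (Nat.Prime 2) := ⟨Nat.prime_two⟩
  have hm : Cfsg.IsMetacyclic ↥(S : Subgroup G) := ⟨N, inferInstance, hNc, hQc⟩
  have hx : ¬ MaxClassTwo ↥(S : Subgroup G) := fun h =>
    absurd (card_le_two_of_maxClassTwo S.2 (QuotientGroup.mk' N)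
      (QuotientGroup.mk'_surjective N) h) (by omega)
  by_cases hh : ∃ n : ℕ, 0 < n ∧ Nonempty (↥(S : Subgroup G) ≃*
      Multiplicative (ZMod (2 ^ n)) × Multiplicative (ZMod (2 ^ n)))
  · obtain ⟨n, hn, ⟨e⟩⟩ := hh
    have hn2 : 2 ≤ n := by
      by_contra hlt
      obtain rfl : n = 1 := by omega
      obtain ⟨q, hq⟩ := IsCyclic.exists_ofOrder_eq_natCard (α := ↥(S : Subgroup G) ⧸ N)
      obtain ⟨x, rfl⟩ := QuotientGroup.mk'_surjective N q
      have hx2 : x ^ 2 = 1 := e.injective (by
        have hz : ∀ z : Multiplicative (ZMod (2 ^ 1)), z ^ 2 = 1 := fun z => by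
          have hc2 : Nat.card (Multiplicative (ZMod (2 ^ 1))) = 2 := by
            simp [Nat.card_congr Multiplicative.toAdd, Nat.card_zmod]
          have h7 : z ^ Nat.card (Multiplicative (ZMod (2 ^ 1))) = 1 := pow_card_eq_one'
          calc z ^ 2 = z ^ Nat.card (Multiplicative (ZMod (2 ^ 1))) := by rw [hc2]
            _ = 1 := h7
        rw [map_pow, map_one]
        exact Prod.ext (hz _) (hz _))
      have : Nat.card (↥(S : Subgroup G) ⧸ N) ∣ 2 :=
        hq ▸ orderOf_dvd_of_pow_eq_one (by rw [← map_pow, hx2, map_one])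
      have := Nat.le_of_dvd two_pos this
      omega
    set K := Cfsg.pPrimeCore 2 G
    haveI : K.Normal := Cores.pPrimeCore_normal 2 G
    have hcop : (Nat.card K).Coprime 2 := Cores.coprime_card_pPrimeCore 2
    haveI : Group.IsSolvable K := hFT K (Nat.odd_iff.2 (by
      have := (Nat.prime_two.coprime_iff_not_dvd.1 hcop.symm)
      omega))
    set π := QuotientGroup.mk' K
    let P : Sylow 2 (G ⧸ K) := S.mapSurjective (QuotientGroup.mk'_surjective K)
    have hinj : Function.Injective (π.comp (S : Subgroup G).subtype) := by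
      rw [injective_iff_map_eq_one]
      intro a ha
      have hk : (a : G) ∈ K ⊓ (S : Subgroup G) := ⟨(QuotientGroup.eq_one_iff (a : G)).1 ha, a.2⟩
      obtain ⟨j, hj⟩ := IsPGroup.iff_card.1 S.2
      rw [Subgroup.inf_eq_bot_of_coprime (hj ▸ Nat.Coprime.pow_right j hcop), Subgroup.mem_bot] at hk
      exact Subtype.ext hk
    have hrange : (π.comp (S : Subgroup G).subtype).range = (P : Subgroup (G ⧸ K)) := by
      rw [MonoidHom.range_comp, Subgroup.range_subtype]; rfl
    let e' : (P : Subgroup (G ⧸ K)) ≃* Multiplicative (ZMod (2 ^ n) × ZMod (2 ^ n)) :=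
      ((MulEquiv.subgroupCongr hrange.symm).trans (MonoidHom.ofInjective hinj).symm).trans
        (e.trans (MulEquiv.prodMultiplicative (G := ZMod (2 ^ n)) (H := ZMod (2 ^ n))).symm)
    have hO : ∀ M : Subgroup (G ⧸ K), M.Normal → Odd (Nat.card M) → M = ⊥ := by
      intro M hM hodd
      have hle : M.comap π ≤ K := by
        refine Cores.le_pPrimeCore inferInstance ?_
        refine (Nat.prime_two.coprime_iff_not_dvd.2 ?_).symm
        intro h2
        have hc : Nat.card (M.comap π) = Nat.card M * Nat.card K := by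
          have := Cores.card_map_mul_ker π (M.comap π) (MonoidHom.ker_le_comap π M)
          rw [Subgroup.map_comap_eq_self_of_surjective (QuotientGroup.mk'_surjective K)] at this
          rw [← this, QuotientGroup.ker_mk']
        rw [hc] at h2
        rcases (Nat.Prime.dvd_mul Nat.prime_two).1 h2 with h3 | h3
        · exact hodd.not_two_dvd_nat h3
        · exact Nat.prime_two.coprime_iff_not_dvd.1 hcop.symm h3
      rw [← Subgroup.map_comap_eq_self_of_surjective (QuotientGroup.mk'_surjective K) M, eq_bot_iff,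
        ← QuotientGroup.map_mk'_self K]
      exact Subgroup.map_mono hle
    obtain ⟨hPn, -, hidx⟩ := S0949.result P n hn2 e' hO
    haveI := hPn
    haveI : Group.IsSolvable (P : Subgroup (G ⧸ K)) := by
      haveI := P.2.isNilpotent
      infer_instance
    haveI : Group.IsSolvable ((G ⧸ K) ⧸ (P : Subgroup (G ⧸ K))) := by
      rcases hidx with h1 | h1
      · haveI : Subsingleton ((G ⧸ K) ⧸ (P : Subgroup (G ⧸ K))) :=
          (Nat.card_eq_one_iff_unique.1 h1).1
        infer_instance
      · haveI : Fact (Nat.Prime 3) := ⟨Nat.prime_three⟩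
        haveI : IsCyclic ((G ⧸ K) ⧸ (P : Subgroup (G ⧸ K))) := isCyclic_of_prime_card (p := 3) h1
        exact Group.isSolvable_of_comm fun a b => mul_comm' a b
    haveI : Group.IsSolvable (G ⧸ K) := isSolvable_of_normal (P : Subgroup (G ⧸ K))
    exact isSolvable_of_normal K
  · obtain ⟨Q, K, hKn, hKQ⟩ :=
      (IsolatedElts.hasNormalPComplement_iff_noFusion S).2 (noFusion_of_metacyclic S hm hx hh)
    have hKc : Nat.card K = (Q : Subgroup G).index := hKQ.index_eq_card.symm
    haveI : Group.IsSolvable K := hFT K (Nat.odd_iff.2 (by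
      have := Q.not_dvd_index
      omega))
    haveI : Group.IsSolvable (G ⧸ K) := by
      obtain ⟨j, hj⟩ := IsPGroup.iff_card.1 Q.2
      haveI := (IsPGroup.of_card (G := G ⧸ K) (p := 2) (n := j)
        (by rw [← Subgroup.index_eq_card, hKQ.symm.index_eq_card, hj])).isNilpotent
      infer_instance
    exact isSolvable_of_normal K

end Cfsg.Agent.OddUse
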