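import Mathlib
import Cfsg.Agent.EqLemmas
import Cfsg.Agent.Lib.OddUse.Hyp
import Cfsg.Agent.Lib.Transfer.Alperin
import Cfsg.Agent.Lib.Transfer.Residual
import Cfsg.Agent.Lib.Involution.BaerSuzuki
import Cfsg.Agent.Lib.Cores.Basic
import Cfsg.Prelude.Def_Transfer
import Cfsg.Prelude.Def_Solvable

/-!
Finite groups with a Sylow 2-subgroup whose real elements are central.

If an automorphism of odd order of a 2-group fixes every involution and is nontrivial then some
element of order greater than two is real.  Together with the normal complement criterion of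
Frobenius and the inversion of odd elements by involutions this gives the solubility statement
(the odd order theorem being a hypothesis).
-/

set_option autoImplicit false

open scoped Pointwise

namespace Cfsg.Agent.OddUse.RealSylow

universe u

/-! ### Automorphisms of 2-groups -/

section TwoGroup

variable {U : Type*} [Group U]

/-- The commutator `v w v⁻¹ w⁻¹`. -/
abbrev comm (v w : U) : U := v * w * v⁻¹ * w⁻¹

theorem comm_eq_squares (v w : U) :
    comm v w = (v * v) * ((v⁻¹ * w) * (v⁻¹ * w)) * (w⁻¹ * w⁻¹) := by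
  simp only [comm]; group

/-- A 2-group with an automorphism of odd order that moves something but fixes all the elements
squaring to one has a real element whose square is not one. -/
theorem exists_real_of_moved [Finite U] (hU : IsPGroup 2 U) (h : MulAut U)
    (hodd : Odd (orderOf h)) (hfix : ∀ u : U, u * u = 1 → h u = u) (hne : h ≠ 1) :
    ∃ y u : U, y * y ≠ 1 ∧ u * y * u⁻¹ = y⁻¹ := by
  haveI : Fact (Nat.Prime 2) := ⟨Nat.prime_two⟩
  classical
  -- a minimal invariant subgroup with a moved element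
  set P : Subgroup U → Prop := fun V => (∀ v ∈ V, h v ∈ V) ∧ ∃ v ∈ V, h v ≠ v with hP
  have htop : P ⊤ := by
    refine ⟨fun v _ => Subgroup.mem_top _, ?_⟩
    by_contra hc
    push_neg at hc
    exact hne (MulEquiv.ext fun v => hc v (Subgroup.mem_top _))
  obtain ⟨V, hV, hVmin⟩ := Set.Finite.exists_minimal (Set.toFinite {V : Subgroup U | P V}) ⟨⊤, htop⟩
  obtain ⟨hinv, hmov⟩ := hV
  have hsmall : ∀ W : Subgroup U, W ≤ V → (∀ v ∈ W, h v ∈ W) → W ≠ V → ∀ v ∈ W, h v = v := by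
    intro W hW hWi hWne v hv
    by_contra hvne
    exact hWne (le_antisymm hW (hVmin ⟨hWi, v, hv, hvne⟩ hW))
  -- the subgroup of the quotients `a⁻¹ h(a)` is everything
  set D : Subgroup U := Subgroup.closure ((fun a => a⁻¹ * h a) '' (V : Set U)) with hD
  have hDV : D ≤ V := by
    rw [hD, Subgroup.closure_le]
    rintro _ ⟨a, ha, rfl⟩
    exact V.mul_mem (V.inv_mem ha) (hinv a ha)
  have hDinv : ∀ v ∈ D, h v ∈ D := by
    intro v hv
    have : D ≤ D.comap h.toMonoidHom := by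
      rw [hD, Subgroup.closure_le]
      rintro _ ⟨a, ha, rfl⟩
      refine Subgroup.subset_closure ⟨h a, hinv a ha, ?_⟩
      simp
    exact this hv
  have hDeq : D = V := by
    by_contra hDne
    obtain ⟨a, ha, hane⟩ := hmov
    have hc : h (a⁻¹ * h a) = a⁻¹ * h a :=
      hsmall D hDV hDinv hDne _ (Subgroup.subset_closure ⟨a, ha, rfl⟩)
    set c := a⁻¹ * h a with hcdef
    have hpow : ∀ n : ℕ, (h ^ n) a = a * c ^ n := by
      intro n
      induction n with
      | zero => simp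
      | succ n ih =>
        rw [pow_succ', MulAut.mul_apply, ih, map_mul, map_pow, hc, pow_succ' c n, ← mul_assoc]
        simp [hcdef]
    have h1 : c ^ orderOf h = 1 := by
      have := hpow (orderOf h)
      rw [pow_orderOf_eq_one, MulAut.one_apply] at this
      exact (mul_eq_left.mp this.symm)
    obtain ⟨k, hk⟩ := hU c
    have h2 : orderOf c = 1 := by
      refine Nat.eq_one_of_dvd_coprimes ?_ (orderOf_dvd_of_pow_eq_one hk) (orderOf_dvd_of_pow_eq_one h1)
      exact Nat.Coprime.pow_left k ((Nat.coprime_two_left).mpr hodd)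
    rw [orderOf_eq_one_iff, hcdef, inv_mul_eq_one] at h2
    exact hane h2.symm
  -- squares are fixed
  set Q : Subgroup U := Subgroup.closure ((fun a => a * a) '' (V : Set U)) with hQ
  have hsqfix : ∀ a ∈ V, h (a * a) = a * a := by
    intro a ha
    refine hsmall Q ?_ ?_ ?_ _ (Subgroup.subset_closure ⟨a, ha, rfl⟩)
    · rw [hQ, Subgroup.closure_le]
      rintro _ ⟨b, hb, rfl⟩
      exact V.mul_mem hb hb
    · intro v hv
      have : Q ≤ Q.comap h.toMonoidHom := by
        rw [hQ, Subgroup.closure_le]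
        rintro _ ⟨b, hb, rfl⟩
        exact Subgroup.subset_closure ⟨h b, hinv b hb, (map_mul _ _ _).symm⟩
      exact this hv
    · intro hQV
      obtain ⟨v, hv, hvne⟩ := hmov
      obtain ⟨n, hn⟩ := IsPGroup.iff_card.mp (hU.to_subgroup V)
      rcases n with _ | n
      · rw [pow_zero, Subgroup.card_eq_one] at hn
        rw [hn, Subgroup.mem_bot] at hv
        exact hvne (by rw [hv, map_one])
      obtain ⟨M, hM⟩ := Sylow.exists_subgroup_card_pow_prime 2 (G := V) (n := n)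
        (hn ▸ pow_dvd_pow 2 (Nat.le_succ n))
      have hidx : M.index = 2 := by
        have := M.card_mul_index
        rw [hM, hn, pow_succ] at this
        exact Nat.eq_of_mul_eq_mul_left (by positivity) this
      have hle : Q ≤ M.map V.subtype := by
        rw [hQ, Subgroup.closure_le]
        rintro _ ⟨b, hb, rfl⟩
        exact ⟨⟨b, hb⟩ * ⟨b, hb⟩, Subgroup.mul_self_mem_of_index_two hidx _, rfl⟩
      rw [hQV] at hle
      have := Subgroup.card_le_of_le hle
      rw [Subgroup.card_map_of_injective V.subtype_injective, hM, hn, pow_succ] at this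
      have := Nat.two_pow_pos n
      omega
  -- squares are central
  have hsqcen : ∀ a ∈ V, ∀ v ∈ V, Commute (a * a) v := by
    intro a ha
    have hle : D ≤ Subgroup.centralizer ({a * a} : Set U) := by
      rw [hD, Subgroup.closure_le]
      rintro _ ⟨v, hv, rfl⟩
      have h1 := hsqfix (v * a * v⁻¹) (V.mul_mem (V.mul_mem hv ha) (V.inv_mem hv))
      have h2 : v * a * v⁻¹ * (v * a * v⁻¹) = v * (a * a) * v⁻¹ := by group
      rw [h2, map_mul, map_mul, hsqfix a ha, map_inv] at h1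
      rw [SetLike.mem_coe, Subgroup.mem_centralizer_singleton_iff]
      calc v⁻¹ * h v * (a * a) = v⁻¹ * (h v * (a * a) * (h v)⁻¹) * h v := by group
        _ = v⁻¹ * (v * (a * a) * v⁻¹) * h v := by rw [h1]
        _ = a * a * (v⁻¹ * h v) := by group
    intro v hv
    exact ((Subgroup.mem_centralizer_singleton_iff.mp (hle (hDeq.symm ▸ hv))).symm : _)
  have hccen : ∀ v ∈ V, ∀ w ∈ V, ∀ z ∈ V, Commute (comm v w) z := by
    intro v hv w hw z hz
    rw [comm_eq_squares]
    exact ((hsqcen v hv z hz).mul_left (hsqcen _ (V.mul_mem (V.inv_mem hv) hw) z hz)).mul_left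
      (hsqcen _ (V.inv_mem hw) z hz)
  have hcmem : ∀ v ∈ V, ∀ w ∈ V, comm v w ∈ V := fun v hv w hw =>
    V.mul_mem (V.mul_mem (V.mul_mem hv hw) (V.inv_mem hv)) (V.inv_mem hw)
  have hcfix : ∀ v ∈ V, ∀ w ∈ V, h (comm v w) = comm v w := by
    intro v hv w hw
    rw [comm_eq_squares, map_mul, map_mul, hsqfix v hv, hsqfix _ (V.mul_mem (V.inv_mem hv) hw),
      hsqfix _ (V.inv_mem hw)]
  obtain ⟨y, hy, hyne⟩ := hmov
  have hy2 : y * y ≠ 1 := fun hc => hyne (hfix y hc)
  have hmulL : ∀ v₁ ∈ V, ∀ v₂ ∈ V, ∀ w ∈ V, comm (v₁ * v₂) w = comm v₁ w * comm v₂ w := by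
    intro v₁ h₁ v₂ h₂ w hw
    calc comm (v₁ * v₂) w = v₁ * comm v₂ w * v₁⁻¹ * comm v₁ w := by simp only [comm]; group
      _ = comm v₂ w * comm v₁ w := by rw [← (hccen v₂ h₂ w hw v₁ h₁).eq, mul_inv_cancel_right]
      _ = comm v₁ w * comm v₂ w := (hccen v₂ h₂ w hw _ (hcmem v₁ h₁ w hw)).eq
  have hmulR : ∀ w ∈ V, ∀ v₁ ∈ V, ∀ v₂ ∈ V, comm w (v₁ * v₂) = comm w v₁ * comm w v₂ := by
    intro w hw v₁ h₁ v₂ h₂
    calc comm w (v₁ * v₂) = comm w v₁ * (v₁ * comm w v₂ * v₁⁻¹) := by simp only [comm]; group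
      _ = comm w v₁ * comm w v₂ := by rw [← (hccen w hw v₂ h₂ v₁ h₁).eq, mul_inv_cancel_right]
  -- the commutators with `y`
  have hBone : comm (1 : U) y = 1 := by simp [comm]
  let B : Subgroup U :=
    { carrier := {b | ∃ v ∈ V, comm v y = b}
      one_mem' := ⟨1, V.one_mem, hBone⟩
      mul_mem' := by
        rintro _ _ ⟨v₁, h₁, rfl⟩ ⟨v₂, h₂, rfl⟩
        exact ⟨v₁ * v₂, V.mul_mem h₁ h₂, hmulL v₁ h₁ v₂ h₂ y hy⟩
      inv_mem' := by
        rintro _ ⟨v, hv, rfl⟩
        refine ⟨v⁻¹, V.inv_mem hv, eq_inv_of_mul_eq_one_left ?_⟩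
        rw [← hmulL v⁻¹ (V.inv_mem hv) v hv y hy, inv_mul_cancel, hBone] }
  have hsurj : ∀ w ∈ V, ∃ w₀ ∈ V, h w₀ = w := by
    intro w hw
    have hinj : Function.Injective (fun x : V => (⟨h x.1, hinv x.1 x.2⟩ : V)) :=
      fun x z hxz => Subtype.ext (h.injective (Subtype.mk.inj hxz))
    obtain ⟨w₀, hw₀⟩ := Finite.injective_iff_surjective.mp hinj ⟨w, hw⟩
    exact ⟨w₀.1, w₀.2, congrArg Subtype.val hw₀⟩
  let L : Subgroup U :=
    { carrier := {v | v ∈ V ∧ ∀ w ∈ V, comm w v ∈ B}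
      one_mem' := ⟨V.one_mem, fun w _ => by
        have : comm w (1 : U) = 1 := by simp [comm]
        rw [this]; exact B.one_mem⟩
      mul_mem' := by
        rintro v₁ v₂ ⟨h₁, h₁'⟩ ⟨h₂, h₂'⟩
        refine ⟨V.mul_mem h₁ h₂, fun w hw => ?_⟩
        rw [hmulR w hw v₁ h₁ v₂ h₂]
        exact B.mul_mem (h₁' w hw) (h₂' w hw)
      inv_mem' := by
        rintro v ⟨hv, hv'⟩
        refine ⟨V.inv_mem hv, fun w hw => ?_⟩
        have h1 := hmulR w hw v hv v⁻¹ (V.inv_mem hv)
        have h2 : comm w (v * v⁻¹) = 1 := by simp [comm]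
        rw [h2] at h1
        rw [eq_inv_of_mul_eq_one_right h1.symm]
        exact B.inv_mem (hv' w hw) }
  have hLeq : L = V := by
    by_contra hLne
    refine hyne (hsmall L (fun v hv => hv.1) ?_ hLne y ⟨hy, fun w hw => ⟨w, hw, rfl⟩⟩)
    rintro v ⟨hv, hv'⟩
    refine ⟨hinv v hv, fun w hw => ?_⟩
    obtain ⟨w₀, hw₀, rfl⟩ := hsurj w hw
    have : comm (h w₀) (h v) = h (comm w₀ v) := by simp [comm]
    rw [this, hcfix w₀ hw₀ v hv]
    exact hv' w₀ hw₀
  have hB : ∀ w ∈ V, ∀ v ∈ V, comm w v ∈ B := fun w hw v hv => (hLeq.symm ▸ hv : v ∈ L).2 w hw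
  let K : Subgroup U :=
    { carrier := {a | a ∈ V ∧ a * a ∈ B}
      one_mem' := ⟨V.one_mem, by rw [one_mul]; exact B.one_mem⟩
      mul_mem' := by
        rintro a b ⟨ha, ha'⟩ ⟨hb, hb'⟩
        refine ⟨V.mul_mem ha hb, ?_⟩
        have h1 : a * b * (a * b) = a * comm b a * (a * b * b) := by simp only [comm]; group
        have h2 : a * comm b a * (a * b * b) = comm b a * (a * a) * (b * b) := by
          rw [← (hccen b hb a ha a ha).eq]; group
        rw [h1, h2]
        exact B.mul_mem (B.mul_mem (hB b hb a ha) ha') hb'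
      inv_mem' := by
        rintro a ⟨ha, ha'⟩
        refine ⟨V.inv_mem ha, ?_⟩
        rw [← mul_inv_rev]
        exact B.inv_mem ha' }
  have hKD : D ≤ K := by
    rw [hD, Subgroup.closure_le]
    rintro _ ⟨a, ha, rfl⟩
    have hha := hinv a ha
    refine ⟨V.mul_mem (V.inv_mem ha) hha, ?_⟩
    have h1 : a⁻¹ * h a * (a⁻¹ * h a) = a⁻¹ * comm (h a) a⁻¹ * (a⁻¹ * (h a * h a)) := by
      simp only [comm]; group
    rw [h1, ← (hccen _ hha _ (V.inv_mem ha) _ (V.inv_mem ha)).eq, ← map_mul, hsqfix a ha]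
    have h2 : comm (h a) a⁻¹ * a⁻¹ * (a⁻¹ * (a * a)) = comm (h a) a⁻¹ := by group
    rw [h2]
    exact hB _ hha _ (V.inv_mem ha)
  obtain ⟨-, u, hu, huy⟩ := hKD (hDeq.symm ▸ hy : y ∈ D)
  refine ⟨y, u, hy2, ?_⟩
  have h3 : u * y * u⁻¹ = y * y * y := by
    rw [← huy]; simp only [comm]; group
  have h4 : comm u (y * y) = 1 := by
    simp only [comm]
    rw [← (hsqcen y hy u hu).eq]; group
  rw [hmulR u hu y hy y hy, huy] at h4
  rw [h3]
  exact eq_inv_of_mul_eq_one_left (by rw [← h4]; group)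

end TwoGroup

/-! ### Real elements -/

section Real

variable {G : Type u} [Group G]

theorem conj_odd_pow {c y : G} (hc : c * y * c⁻¹ = y⁻¹) {m : ℕ} (hm : Odd m) :
    c ^ m * y * (c ^ m)⁻¹ = y⁻¹ := by
  obtain ⟨j, rfl⟩ := hm
  induction j with
  | zero => rw [show 2 * 0 + 1 = 1 from rfl, pow_one]; exact hc
  | succ j ih =>
    have e : c ^ (2 * (j + 1) + 1) = c * c * c ^ (2 * j + 1) := by
      rw [← pow_two, ← pow_add]; ring_nf
    have hc2 : c * c * y⁻¹ * (c * c)⁻¹ = y⁻¹ := by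
      calc c * c * y⁻¹ * (c * c)⁻¹ = c * (c * y * c⁻¹)⁻¹ * c⁻¹ := by group
        _ = c * y * c⁻¹ := by rw [hc, inv_inv]; exact hc
        _ = y⁻¹ := hc
    calc c ^ (2 * (j + 1) + 1) * y * (c ^ (2 * (j + 1) + 1))⁻¹
        = c * c * (c ^ (2 * j + 1) * y * (c ^ (2 * j + 1))⁻¹) * (c * c)⁻¹ := by rw [e]; group
      _ = y⁻¹ := by rw [ih, hc2]

variable [Finite G]

theorem exists_conj_mem_sylow {p : ℕ} [Fact p.Prime] (S : Sylow p G) {H : Subgroup G}
    (hH : IsPGroup p H) : ∃ g : G, ∀ x ∈ H, g * x * g⁻¹ ∈ (S : Subgroup G) := by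
  obtain ⟨P, hP⟩ := hH.exists_le_sylow
  obtain ⟨g, hg⟩ := MulAction.exists_smul_eq G P S
  refine ⟨g, fun x hx => ?_⟩
  have h1 : g • P = S := hg
  have h2 : MulAut.conj g • x ∈ MulAut.conj g • (P : Subgroup G) :=
    Subgroup.smul_mem_pointwise_smul x (MulAut.conj g) _ (hP hx)
  rw [← h1, Sylow.coe_subgroup_smul]
  simpa [MulAut.smul_def] using h2

theorem isPGroup_zpowers {p : ℕ} [Fact p.Prime] {x : G} {k : ℕ} (hx : orderOf x = p ^ k) :
    IsPGroup p (Subgroup.zpowers x) :=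
  IsPGroup.of_card (n := k) (by rw [Nat.card_zpowers, hx])

/-- A real 2-element is of order at most two. -/
theorem real_sq_eq_one (S : Sylow 2 G)
    (hS : ∀ s : ↥(S : Subgroup G), IsConj s s⁻¹ → s ∈ Subgroup.center ↥(S : Subgroup G))
    {y : G} {k : ℕ} (hy : orderOf y = 2 ^ k) (hreal : IsConj y y⁻¹) : y * y = 1 := by
  haveI : Fact (Nat.Prime 2) := ⟨Nat.prime_two⟩
  obtain ⟨c, hc⟩ := isConj_iff.mp hreal
  obtain ⟨i, m, hm, hcm⟩ := Nat.exists_eq_two_pow_mul_odd (orderOf_pos c).ne'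
  set w := c ^ m with hw
  have hwy : w * y * w⁻¹ = y⁻¹ := conj_odd_pow hc hm
  have how : orderOf w = 2 ^ i := by
    rw [hw, orderOf_pow, hcm, Nat.gcd_eq_right (dvd_mul_left _ _),
      Nat.mul_div_cancel _ hm.pos]
  have hnorm : Subgroup.zpowers w ≤ Subgroup.normalizer (Subgroup.zpowers y : Set G) := by
    rw [Subgroup.zpowers_le, Subgroup.mem_normalizer_iff]
    intro z
    constructor
    · rintro ⟨n, rfl⟩
      refine ⟨-n, ?_⟩
      simp only [zpow_neg]
      rw [← inv_zpow, ← hwy, conj_zpow]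
    · rintro ⟨n, hn⟩
      refine ⟨-n, ?_⟩
      simp only [zpow_neg] at hn ⊢
      calc (y ^ n)⁻¹ = w⁻¹ * (w * (y ^ n)⁻¹ * w⁻¹) * w := by group
        _ = w⁻¹ * (w * y * w⁻¹) ^ (-n) * w := by rw [conj_zpow, zpow_neg]
        _ = w⁻¹ * y ^ n * w := by rw [hwy, inv_zpow, zpow_neg, inv_inv]
        _ = z := by rw [hn]; group
  have hP : IsPGroup 2 (Subgroup.zpowers y ⊔ Subgroup.zpowers w : Subgroup G) :=
    IsPGroup.to_sup_of_normal_left' (isPGroup_zpowers hy) (isPGroup_zpowers how) hnorm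
  obtain ⟨g, hg⟩ := exists_conj_mem_sylow S hP
  let y' : ↥(S : Subgroup G) :=
    ⟨g * y * g⁻¹, hg y (Subgroup.mem_sup_left (Subgroup.mem_zpowers y))⟩
  let w' : ↥(S : Subgroup G) :=
    ⟨g * w * g⁻¹, hg w (Subgroup.mem_sup_right (Subgroup.mem_zpowers w))⟩
  have hconj : w' * y' * w'⁻¹ = y'⁻¹ := by
    refine Subtype.ext ?_
    show g * w * g⁻¹ * (g * y * g⁻¹) * (g * w * g⁻¹)⁻¹ = (g * y * g⁻¹)⁻¹
    calc _ = g * (w * y * w⁻¹) * g⁻¹ := by group
      _ = _ := by rw [hwy]; group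
  have hcen := hS y' (isConj_iff.mpr ⟨w', hconj⟩)
  have h1 : y' = y'⁻¹ := by
    have h2 := Subgroup.mem_center_iff.mp hcen w'
    rwa [h2, mul_inv_cancel_right] at hconj
  have h2 : y' * y' = 1 := by
    nth_rewrite 1 [h1]; exact inv_mul_cancel _
  have h3 : g * y * g⁻¹ * (g * y * g⁻¹) = 1 := congrArg Subtype.val h2
  calc y * y = g⁻¹ * (g * y * g⁻¹ * (g * y * g⁻¹)) * g := by group
    _ = 1 := by rw [h3]; group

/-- If every involution is central, then there is a normal 2-complement. -/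
theorem hasNormalPComplement_of_involutions_central (S : Sylow 2 G)
    (hS : ∀ s : ↥(S : Subgroup G), IsConj s s⁻¹ → s ∈ Subgroup.center ↥(S : Subgroup G))
    (hinv : ∀ t : G, t * t = 1 → t ∈ Subgroup.center G) :
    Cfsg.HasNormalPComplement 2 G := by
  haveI : Fact (Nat.Prime 2) := ⟨Nat.prime_two⟩
  refine Transfer.hasNormalPComplement_of_local S fun R hR _ n hn hco => ?_
  set φ := R.normalizerMonoidHom ⟨n, hn⟩ with hφ
  have hodd : Odd (orderOf φ) := by
    have h1 : orderOf φ ∣ orderOf n := by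
      have := orderOf_map_dvd R.normalizerMonoidHom ⟨n, hn⟩
      rwa [Subgroup.orderOf_mk] at this
    exact Odd.of_dvd_nat (Nat.coprime_two_right.mp hco) h1
  have happ : ∀ r : R, ((φ r : R) : G) = n * r * n⁻¹ := fun r => rfl
  by_cases hφ1 : φ = 1
  · refine Subgroup.mem_centralizer_iff.mpr fun r hr => ?_
    have h2 : n * r * n⁻¹ = r := by
      have := happ ⟨r, hr⟩
      rw [hφ1] at this
      exact this.symm
    calc r * n = n * r * n⁻¹ * n := by rw [h2]
      _ = n * r := inv_mul_cancel_right _ _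
  exfalso
  obtain ⟨y, u, hy, hyu⟩ := exists_real_of_moved (S.isPGroup'.to_le hR.1) φ hodd (by
    intro u hu
    refine Subtype.ext ?_
    rw [happ, Subgroup.mem_center_iff.mp (hinv u (congrArg Subtype.val hu)) n]
    exact mul_inv_cancel_right _ _) hφ1
  obtain ⟨k, hk⟩ := IsPGroup.iff_orderOf.mp (S.isPGroup'.to_le hR.1) y
  refine hy (Subtype.ext (real_sq_eq_one S hS (y := (y : G)) (k := k) ?_ ?_))
  · rw [Subgroup.orderOf_coe, hk]
  · exact isConj_iff.mpr ⟨(u : G), congrArg Subtype.val hyu⟩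

/-- Solubility from a normal 2-complement. -/
theorem isSolvable_of_complement (hFT : OddSolvable.{u})
    (h : Cfsg.HasNormalPComplement 2 G) : Group.IsSolvable G := by
  haveI : Fact (Nat.Prime 2) := ⟨Nat.prime_two⟩
  obtain ⟨P, N, hN, hNP⟩ := h
  haveI := hN
  have hcard := hNP.card_mul
  have hidx : N.index = Nat.card (P : Subgroup G) := hNP.symm.index_eq_card
  haveI : Group.IsSolvable N := hFT N (by
    rw [← Nat.not_even_iff_odd, even_iff_two_dvd]
    intro h2
    refine P.not_dvd_index ?_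
    rwa [hNP.index_eq_card])
  haveI : Group.IsNilpotent (G ⧸ N) := by
    obtain ⟨n, hn⟩ := IsPGroup.iff_card.mp P.isPGroup'
    exact (IsPGroup.of_card (p := 2) (n := n) (by
      rw [← Subgroup.index_eq_card, hidx, hn])).isNilpotent
  exact isSolvable_of_normal N

/-- A centralizer of odd index contains every element inverting its element. -/
theorem commute_of_odd_index {x w : G} (hodd : ¬ 2 ∣ (Subgroup.centralizer ({x} : Set G)).index)
    (hw : w * x * w⁻¹ = x⁻¹) : w * x = x * w := by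
  set C := Subgroup.centralizer ({x} : Set G) with hC
  have hmemC : ∀ z : G, z ∈ C ↔ z * x = x * z := fun z => Subgroup.mem_centralizer_singleton_iff
  have hxi : w * x⁻¹ * w⁻¹ = x := by
    calc w * x⁻¹ * w⁻¹ = (w * x * w⁻¹)⁻¹ := by group
      _ = x := by rw [hw, inv_inv]
  have hx' : w⁻¹ * x * w = x⁻¹ := by
    calc w⁻¹ * x * w = w⁻¹ * (w * x⁻¹ * w⁻¹) * w := by rw [hxi]
      _ = x⁻¹ := by group
  have hinvc : ∀ z ∈ C, z * x⁻¹ = x⁻¹ * z := fun z hz => Commute.inv_right ((hmemC z).mp hz)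
  have hfwd : ∀ z ∈ C, w * z * w⁻¹ ∈ C := fun z hz => by
    rw [hmemC]
    calc w * z * w⁻¹ * x = w * (z * (w⁻¹ * x * w)) * w⁻¹ := by group
      _ = w * (x⁻¹ * z) * w⁻¹ := by rw [hx', hinvc z hz]
      _ = w * x⁻¹ * w⁻¹ * (w * z * w⁻¹) := by group
      _ = x * (w * z * w⁻¹) := by rw [hxi]
  have hwN : w ∈ Subgroup.normalizer (C : Set G) :=
    Subgroup.mem_normalizer_fintype hfwd
  have hw2 : w ^ 2 ∈ C := by
    rw [hmemC, pow_two]
    calc w * w * x = w * (w * x * w⁻¹) * w⁻¹ * (w * w) := by group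
      _ = x * (w * w) := by rw [hw, hxi]
  set N := Subgroup.normalizer (C : Set G) with hN
  have hrel : Odd (C.relIndex N) := by
    rw [← Nat.not_even_iff_odd, even_iff_two_dvd]
    exact fun h2 => hodd (h2.trans ⟨N.index, (Subgroup.relIndex_mul_index Subgroup.le_normalizer).symm⟩)
  have hmem : w ^ C.relIndex N ∈ C := by
    haveI : (C.subgroupOf N).Normal := Subgroup.normal_in_normalizer
    exact Subgroup.mem_subgroupOf.mp ((C.subgroupOf N).pow_index_mem (⟨w, hwN⟩ : N))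
  obtain ⟨j, hj⟩ := hrel
  rw [hj, pow_succ, pow_mul] at hmem
  exact (hmemC w).mp ((C.mul_mem_cancel_left (C.pow_mem hw2 j)).mp hmem)

/-- No real element of odd order in the quotient by the 2-core if none in the group. -/
theorem no_real_odd_quotient
    (hno : ∀ x n : G, Odd (orderOf x) → n * x * n⁻¹ = x⁻¹ → x = 1)
    (Q : Subgroup G) [Q.Normal] (hQ : IsPGroup 2 Q)
    (x : G ⧸ Q) (w : G ⧸ Q) (hx : Odd (orderOf x)) (hw : w * x * w⁻¹ = x⁻¹) : x = 1 := by
  haveI : Fact (Nat.Prime 2) := ⟨Nat.prime_two⟩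
  by_contra hne
  obtain ⟨r, hr, hrdvd⟩ := Nat.exists_prime_and_dvd (fun h => hne (orderOf_eq_one_iff.mp h))
  haveI : Fact r.Prime := ⟨hr⟩
  obtain ⟨d, hd⟩ := hrdvd
  have hxd : orderOf (x ^ d) = r := by
    have hd0 : 0 < d := Nat.pos_of_ne_zero fun h => by
      rw [h, mul_zero] at hd; exact absurd hd (orderOf_pos x).ne'
    rw [orderOf_pow, hd, Nat.gcd_eq_right (dvd_mul_left _ _), Nat.mul_div_cancel _ hd0]
  have hwd : w * x ^ d * w⁻¹ = (x ^ d)⁻¹ := by rw [← conj_pow, hw, inv_pow]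
  have hr2 : r ≠ 2 := by
    rintro rfl
    rw [hd] at hx
    exact Nat.not_odd_iff_even.mpr (even_two_mul d) hx
  obtain ⟨x₀, hx₀⟩ := QuotientGroup.mk'_surjective Q (x ^ d)
  obtain ⟨w₀, hw₀⟩ := QuotientGroup.mk'_surjective Q w
  obtain ⟨e, m, hm, hxm⟩ :=
    Nat.exists_eq_pow_mul_and_not_dvd (orderOf_pos x₀).ne' r hr.ne_one
  set z := x₀ ^ m with hz
  have hm0 : 0 < m := Nat.pos_of_ne_zero fun h => hm (h ▸ dvd_zero r)
  have hoz : orderOf z = r ^ e := by
    rw [hz, orderOf_pow, hxm, Nat.gcd_eq_right (dvd_mul_left _ _), Nat.mul_div_cancel _ hm0]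
  set π := QuotientGroup.mk' Q with hπ
  have hπz : π z = (x ^ d) ^ m := by rw [hz, map_pow, hx₀]
  have hoπ : orderOf (π z) = r := by
    rw [hπz, Nat.Coprime.orderOf_pow, hxd]
    rw [hxd]; exact (hr.coprime_iff_not_dvd.mpr hm)
  have hwπ : w * π z * w⁻¹ = (π z)⁻¹ := by rw [hπz, ← conj_pow, hwd, inv_pow]
  have hker : π.ker = Q := QuotientGroup.ker_mk' Q
  set K := (Subgroup.zpowers (π z)).comap π with hK
  have hzK : z ∈ K := Subgroup.mem_zpowers (π z)
  have hzKle : Subgroup.zpowers z ≤ K := Subgroup.zpowers_le.mpr hzK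
  have hcardK : Nat.card K = Nat.card Q * r := by
    have h1 := K.card_mul_index
    rw [hK, Subgroup.index_comap_of_surjective (Subgroup.zpowers (π z))
      (QuotientGroup.mk'_surjective Q), ← hK, Subgroup.card_eq_card_quotient_mul_card_subgroup Q,
      ← (Subgroup.zpowers (π z)).card_mul_index, Nat.card_zpowers, hoπ] at h1
    refine Nat.eq_of_mul_eq_mul_right
      (Nat.pos_of_ne_zero (Subgroup.index_ne_zero_of_finite (H := Subgroup.zpowers (π z)))) ?_
    rw [h1]; ring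
  have hcop : (Nat.card Q).Coprime r := by
    obtain ⟨n, hn⟩ := IsPGroup.iff_card.mp hQ
    rw [hn]
    exact Nat.Coprime.pow_left n ((Nat.coprime_primes Nat.prime_two hr).mpr (Ne.symm hr2))
  have he : orderOf z = r := by
    have h1 : orderOf z ∣ Nat.card Q * r := hcardK ▸ Nat.card_zpowers z ▸ Subgroup.card_dvd_of_le hzKle
    have h2 : orderOf z ∣ r := by
      refine Nat.Coprime.dvd_of_dvd_mul_left ?_ h1
      rw [hoz]; exact Nat.Coprime.pow_left e hcop.symm
    rcases (Nat.dvd_prime hr).mp h2 with h3 | h3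
    · rw [orderOf_eq_one_iff.mp h3, map_one, orderOf_one] at hoπ
      exact absurd hoπ.symm hr.ne_one
    · exact h3
  have hsyl : ∀ v ∈ K, orderOf v = r → ∃ P : Sylow r K, (P : Subgroup K).map K.subtype = Subgroup.zpowers v := by
    intro v hv hov
    have hp : IsPGroup r ((Subgroup.zpowers v).subgroupOf K) :=
      (IsPGroup.of_card (n := 1) (G := Subgroup.zpowers v)
        (by rw [Nat.card_zpowers, hov, pow_one])).of_equiv
        (Subgroup.subgroupOfEquivOfLe (Subgroup.zpowers_le.mpr hv)).symm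
    have hidx : ¬ r ∣ ((Subgroup.zpowers v).subgroupOf K).index := by
      have h1 := ((Subgroup.zpowers v).subgroupOf K).index_mul_card
      rw [Nat.card_congr (Subgroup.subgroupOfEquivOfLe (Subgroup.zpowers_le.mpr hv)).toEquiv,
        Nat.card_zpowers, hov, hcardK] at h1
      rw [Nat.eq_of_mul_eq_mul_right hr.pos h1]
      exact fun hdvd => hr.ne_one (Nat.eq_one_of_dvd_coprimes hcop hdvd dvd_rfl)
    refine ⟨hp.toSylow hidx, ?_⟩
    rw [IsPGroup.toSylow_coe, Subgroup.map_subgroupOf_eq_of_le (Subgroup.zpowers_le.mpr hv)]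
  have hconjK : w₀ * z * w₀⁻¹ ∈ K := by
    show π (w₀ * z * w₀⁻¹) ∈ Subgroup.zpowers (π z)
    rw [map_mul, map_mul, map_inv, hw₀, hwπ]
    exact Subgroup.inv_mem _ (Subgroup.mem_zpowers _)
  obtain ⟨P₁, hP₁⟩ := hsyl z hzK he
  obtain ⟨P₂, hP₂⟩ := hsyl (w₀ * z * w₀⁻¹) hconjK (((MulAut.conj w₀).orderOf_eq z).trans he)
  obtain ⟨q, hq⟩ := MulAction.exists_smul_eq K P₂ P₁
  have hmem : (q : G) * (w₀ * z * w₀⁻¹) * (q : G)⁻¹ ∈ Subgroup.zpowers z := by
    rw [← hP₁]
    have h1 : (⟨w₀ * z * w₀⁻¹, hconjK⟩ : K) ∈ (P₂ : Subgroup K) := by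
      have : w₀ * z * w₀⁻¹ ∈ (P₂ : Subgroup K).map K.subtype :=
        hP₂ ▸ Subgroup.mem_zpowers _
      obtain ⟨k, hk, hk'⟩ := this
      rwa [show (⟨w₀ * z * w₀⁻¹, hconjK⟩ : K) = k from Subtype.ext hk'.symm]
    have h2 : MulAut.conj q • (⟨w₀ * z * w₀⁻¹, hconjK⟩ : K) ∈ (P₁ : Subgroup K) := by
      rw [← hq, Sylow.coe_subgroup_smul]
      exact Subgroup.smul_mem_pointwise_smul _ (MulAut.conj q) _ h1
    exact ⟨_, h2, rfl⟩
  obtain ⟨j, hj⟩ := hmem
  simp only at hj
  set n := (q : G) * w₀ with hn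
  have hnz : n * z * n⁻¹ = z ^ j := by rw [hj, hn]; group
  have hπq : Commute (π (q : G)) (π z) := by
    obtain ⟨i, hi⟩ := (q.2 : π (q : G) ∈ Subgroup.zpowers (π z))
    simp only at hi
    rw [← hi]; exact Commute.zpow_left rfl i
  have hπn : π (n * z * n⁻¹) = (π z)⁻¹ := by
    calc π (n * z * n⁻¹) = π (q : G) * (w * π z * w⁻¹) * (π (q : G))⁻¹ := by
          rw [hn, map_mul, map_mul, map_mul, map_inv, map_mul, hw₀]; group
      _ = π (q : G) * (π z)⁻¹ * (π (q : G))⁻¹ := by rw [hwπ]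
      _ = (π z)⁻¹ := by rw [hπq.inv_right.eq, mul_inv_cancel_right]
  have hfin : n * z * n⁻¹ = z⁻¹ := by
    rw [hnz] at hπn ⊢
    rw [map_zpow] at hπn
    rw [← zpow_neg_one] at hπn ⊢
    rw [zpow_eq_zpow_iff_modEq, hoπ] at hπn
    rw [zpow_eq_zpow_iff_modEq, he]
    exact hπn
  have hodd : Odd (orderOf z) := he ▸ hr.odd_of_ne_two hr2
  rw [hno z n hodd hfin, orderOf_one] at he
  exact hr.ne_one he.symm

/-- The statement. -/
theorem main (hFT : OddSolvable.{u}) (a : ℕ)
    (h : ∀ x : G, IsConj x x⁻¹ → x ∉ Subgroup.center G →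
      ((Subgroup.centralizer ({x} : Set G)).index).factorization 2 = a)
    (S : Sylow 2 G)
    (hS : ∀ s : ↥(S : Subgroup G), IsConj s s⁻¹ → s ∈ Subgroup.center ↥(S : Subgroup G)) :
    Group.IsSolvable G ∧
      Cfsg.HasNormalPComplement 2 ↥(Subgroup.closure {g : G | ∃ k : ℕ, orderOf g = 2 ^ k}) := by
  haveI : Fact (Nat.Prime 2) := ⟨Nat.prime_two⟩
  by_cases hinv : ∀ t : G, t * t = 1 → t ∈ Subgroup.center G
  · have hc := hasNormalPComplement_of_involutions_central S hS hinv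
    exact ⟨isSolvable_of_complement hFT hc, Transfer.hasNormalPComplement_subgroup hc _⟩
  push_neg at hinv
  obtain ⟨t, ht, htc⟩ := hinv
  have hot : orderOf t = 2 ^ 1 := by
    rw [pow_one]
    exact orderOf_eq_prime (by rw [pow_two, ht]) fun h1 => htc (h1 ▸ Subgroup.one_mem _)
  obtain ⟨g, hg⟩ := exists_conj_mem_sylow S (isPGroup_zpowers hot)
  set s := g * t * g⁻¹ with hs
  have hsS : s ∈ (S : Subgroup G) := hg t (Subgroup.mem_zpowers t)
  have hss : s * s = 1 := by
    rw [hs]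
    calc g * t * g⁻¹ * (g * t * g⁻¹) = g * (t * t) * g⁻¹ := by group
      _ = 1 := by rw [ht]; group
  have hsinv : s⁻¹ = s := inv_eq_of_mul_eq_one_right hss
  have hsc : s ∉ Subgroup.center G := by
    intro hsc
    have h1 : t = s := by
      calc t = g⁻¹ * (g * t * g⁻¹) * g := by group
        _ = g⁻¹ * s * g := by rw [hs]
        _ = s := by rw [Subgroup.mem_center_iff.mp hsc g⁻¹, inv_mul_cancel_right]
    exact htc (h1 ▸ hsc)
  have hscen := hS ⟨s, hsS⟩ (by
    rw [show (⟨s, hsS⟩ : ↥(S : Subgroup G))⁻¹ = ⟨s, hsS⟩ from Subtype.ext hsinv])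
  have hle : (S : Subgroup G) ≤ Subgroup.centralizer ({s} : Set G) := fun v hv =>
    Subgroup.mem_centralizer_singleton_iff.mpr
      (congrArg Subtype.val (Subgroup.mem_center_iff.mp hscen ⟨v, hv⟩))
  have ha : a = 0 := by
    rw [← h s (by rw [hsinv]) hsc]
    exact Nat.factorization_eq_zero_of_not_dvd fun h2 =>
      S.not_dvd_index (h2.trans (Subgroup.index_dvd_of_le hle))
  have hno : ∀ x n : G, Odd (orderOf x) → n * x * n⁻¹ = x⁻¹ → x = 1 := by
    intro x n hx hn
    have hcomm : n * x = x * n := by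
      by_cases hxc : x ∈ Subgroup.center G
      · exact Subgroup.mem_center_iff.mp hxc n
      refine commute_of_odd_index (fun h2 => ?_) hn
      have h3 := h x (isConj_iff.mpr ⟨n, hn⟩) hxc
      rw [ha] at h3
      exact (Nat.Prime.factorization_pos_of_dvd Nat.prime_two Subgroup.index_ne_zero_of_finite h2).ne' h3
    rw [hcomm, mul_inv_cancel_right] at hn
    have h2 : x ^ 2 = 1 := by
      rw [pow_two]; nth_rewrite 1 [hn]; exact inv_mul_cancel _
    have h3 : orderOf x ∣ 2 := orderOf_dvd_of_pow_eq_one h2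
    rcases (Nat.dvd_prime Nat.prime_two).mp h3 with h4 | h4
    · exact orderOf_eq_one_iff.mp h4
    · rw [h4] at hx; exact absurd hx (by decide)
  set Q := Cfsg.pCore 2 G with hQdef
  haveI : Q.Normal := Cores.pCore_normal 2 G
  have hQ : IsPGroup 2 Q := Cores.isPGroup_pCore 2 G
  have hqodd : Odd (Nat.card (G ⧸ Q)) := by
    rw [← Nat.not_even_iff_odd, even_iff_two_dvd]
    intro h2
    obtain ⟨v, hv⟩ := exists_prime_orderOf_dvd_card' 2 h2
    obtain ⟨x, hxne, hxodd, hxv⟩ := Involution.exists_inverted_odd hv (fun N hN hNp hvN => by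
      have h3 : N ≤ Cfsg.pCore 2 (G ⧸ Q) := Cores.le_pCore hN hNp
      have h4 : Cfsg.pCore 2 (G ⧸ Q) = ⊥ := Cores.pCore_quotient_self 2 G
      rw [h4] at h3
      rw [Subgroup.mem_bot.mp (h3 hvN), orderOf_one] at hv
      exact absurd hv (by decide))
    exact hxne (no_real_odd_quotient hno Q hQ x v hxodd hxv)
  constructor
  · haveI : Group.IsSolvable (G ⧸ Q) := hFT _ hqodd
    haveI : Group.IsNilpotent Q := hQ.isNilpotent
    exact isSolvable_of_normal Q
  · refine Transfer.hasNormalPComplement_of_isPGroup (hQ.to_le ?_)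
    rw [Subgroup.closure_le]
    rintro v ⟨k, hk⟩
    rw [SetLike.mem_coe, ← QuotientGroup.eq_one_iff (N := Q)]
    refine orderOf_eq_one_iff.mp (Nat.eq_one_of_dvd_coprimes ?_
      ((orderOf_map_dvd (QuotientGroup.mk' Q) v).trans hk.dvd) (orderOf_dvd_natCard _))
    exact Nat.Coprime.pow_left k (Nat.coprime_two_left.mpr hqodd)

end Real

end Cfsg.Agent.OddUse.RealSylow
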